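import Groth.Agent.H13AlgSp.ThickAff.Main
import Groth.Agent.H12AlgSp.ShriekSpace
import Groth.Agent.H12AlgSp.LimitScheme

/-!
Thickenings of schemes in algebraic spaces are schemes.
-/

universe u

open CategoryTheory CategoryTheory.Limits AlgebraicGeometry Opposite
open AlgSp Groth.Agent.H12AlgSp Groth.Agent.H13AlgSp Groth.Agent.H12AlgSp.Shriek

set_option backward.isDefEq.respectTransparency false
set_option backward.isDefEq.respectTransparency.types false

namespace Groth.Agent.H13AlgSp.ThickAff

variable {S : Scheme.{u}}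

/-- A thickening of an affine scheme is an affine scheme. -/
theorem exists_affine_iso_of_thickMor {Z : Sp S} (hZ : IsAlgSpace Z) {T : Over S} [IsAffine T.left]
    {i : (yon S).obj T ⟶ Z} (hi : IsThickMor i) :
    ∃ M : Over S, IsAffine M.left ∧ Nonempty ((yon S).obj M ≅ Z) := by
  let g : S ⟶ Spec (CommRingCat.of (ULift.{u} ℤ)) := specULiftZIsTerminal.from S
  have : IsAffine ((Over.map g).obj T).left := ‹IsAffine T.left›
  have hi' : IsThickMor ((yonIso g T).inv ≫ (shr g).map i) :=
    MorphismProperty.RespectsIso.precomp (RepWith thick) _ _ ((repWith_shr_iff g thick i).2 hi)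
  obtain ⟨M', hM', ⟨e⟩⟩ := exists_affine_of_thickening (isAlgSpace_shr hZ) hi'
  obtain ⟨M, eM, t, ht⟩ := exists_presentation e.hom
  have : IsIso ((shr g).map t) := by
    rw [show (shr g).map t = ((yon _).mapIso eM ≪≫ (yonIso g M).symm).inv ≫ e.hom by
      rw [ht]; simp]
    infer_instance
  obtain ⟨r, hr⟩ := exists_map (inv ((shr g).map t)) (by
    rw [IsIso.inv_comp_eq, toBase_naturality])
  have : IsIso t := ⟨r, (shr g).map_injective (by rw [Functor.map_comp, hr, IsIso.hom_inv_id, CategoryTheory.Functor.map_id]),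
    (shr g).map_injective (by rw [Functor.map_comp, hr, IsIso.inv_hom_id, CategoryTheory.Functor.map_id])⟩
  refine ⟨M, ?_, ⟨asIso t⟩⟩
  have : IsIso eM.inv.left := inferInstanceAs (IsIso ((Over.forget _).map eM.inv))
  have : IsAffine ((Over.map g).obj M).left := .of_isIso eM.inv.left
  exact this

/-- A thickening of a scheme is a scheme. -/
theorem exists_iso_of_thickMor {X' : Sp S} (hX' : IsAlgSpace X') {T : Over S} {i : (yon S).obj T ⟶ X'}
    (hi : IsThickMor i) : ∃ M : Over S, Nonempty ((yon S).obj M ≅ X') := by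
  have hc : RepWith @IsClosedImmersion i := repWith_le (fun _ _ _ h => h.1) hi
  obtain ⟨hmono, hsurj, hprop, hopen, -⟩ := H13AlgSp.Thick.props_of_isThickMor hX' hi
  have hinj : Function.Injective (Points.map i) := injective_map_of_mono i
  have key : ∀ B : T.left.affineOpens, ∃ (Z : Over S) (j : (yon S).obj Z ⟶ X'),
      RepWith @IsOpenImmersion j ∧ Points.map i '' Set.range (Points.map ((yon S).map (openIncl T B.1))) ⊆
        Set.range (Points.map j) := by
    intro B
    have hB : RepWith @IsOpenImmersion ((yon S).map (openIncl T B.1)) :=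
      (repWith_yon_map_iff @IsOpenImmersion _).2 (inferInstanceAs (IsOpenImmersion B.1.ι))
    have hO : IsOpen (Points.map i '' Set.range (Points.map ((yon S).map (openIncl T B.1)))) :=
      hopen hX' (𝟙 X') (𝟙 _) i (IsPullback.of_horiz_isIso ⟨by simp⟩) _ (isOpenMap_map_of_repWith
        (fun _ _ k (_ : IsOpenImmersion k) => inferInstance) hB).isOpen_range
    obtain ⟨W, ι, hW, hι, hr⟩ := exists_open_subspace hX' hO
    have hsnd : RepWith @IsOpenImmersion (pullback.fst i ι) :=
      repWith_of_isPullback (IsPullback.of_hasPullback i ι).flip hι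
    obtain ⟨e, he⟩ := exists_iso_of_range_eq hB hsnd (by
      rw [range_snd_of_isPullback (IsPullback.of_hasPullback i ι).flip, hr, hinj.preimage_image])
    have ht : IsThickMor (e.hom ≫ pullback.snd i ι) :=
      MorphismProperty.RespectsIso.precomp (RepWith thick) _ _
        (repWith_of_isPullback (IsPullback.of_hasPullback i ι) hi)
    have : IsAffine (openOver T B.1).left := B.2
    obtain ⟨M, -, ⟨μ⟩⟩ := exists_affine_iso_of_thickMor hW ht
    refine ⟨M, μ.hom ≫ ι, MorphismProperty.RespectsIso.precomp (RepWith @IsOpenImmersion) _ _ hι, ?_⟩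
    rw [← hr]
    rintro _ ⟨x, rfl⟩
    exact ⟨Points.map μ.inv x, by rw [← Points.map_comp, Iso.inv_hom_id_assoc]⟩
  choose Z j hj hsub using key
  obtain ⟨M, μ, hμ⟩ := exists_iso_of_openCover Z j hj (fun A y a => by
    obtain ⟨x, hx⟩ := hsurj (Points.ofPt y a)
    obtain ⟨v, rfl⟩ := (Points.schemeEquiv T).surjective x
    obtain ⟨B, hB⟩ := TopologicalSpace.Opens.mem_iSup.1 ((iSup_affineOpens_eq_top T.left).ge (Set.mem_univ v))
    exact ⟨B, hx ▸ hsub B ⟨_, ⟨Points.ofScheme _ ⟨v, hB⟩, Points.map_yon_map_apply _ _⟩, rfl⟩⟩)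
  exact ⟨M, ⟨asIso μ⟩⟩

end Groth.Agent.H13AlgSp.ThickAff
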