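import Groth.Agent.H13AlgSp.ThickAff.Base
import Groth.Agent.H13AlgSp.TopInv
import Groth.Prelude.Def_AlgSpOX2

/-!
Base change of small etale sites along integral universally injective surjective morphisms.
-/

universe u

open CategoryTheory CategoryTheory.Limits AlgebraicGeometry Opposite
open AlgSp Groth.Agent.H12AlgSp Groth.Agent.H13AlgSp

set_option backward.isDefEq.respectTransparency false

namespace Groth.Agent.H13AlgSp.ThickAff

variable {S : Scheme.{u}} {X Y : Sp S} {f : X ⟶ Y} (hr : Representable f)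
  (hX : IsAlgSpace X) (hY : IsAlgSpace Y) (h1 : IsIntegralMor f) (h2 : IsUnivInjectiveMor f)
  (h3 : IsSurjectiveMor f)

omit hX h1 h2 h3 in
theorem isEtaleMor_obj_hom (hY : IsAlgSpace Y) (E : EtOver Y) : IsEtaleMor E.obj.hom :=
  H13AlgSp.isEtaleMor_of_locP (IsAlgSpace.yon_obj _) hY (H12AlgSp.locP_of_repWith etLocal_etale E.property)

include hX hY h1 h2 h3 in
theorem full_and_faithful_bc : (EtOver.bc hr).Full ∧ (EtOver.bc hr).Faithful := by
  have key : ∀ {E E' : EtOver Y} (φ : (EtOver.bc hr).obj E ⟶ (EtOver.bc hr).obj E'),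
      ∃! φ' : E ⟶ E', (EtOver.bc hr).map φ' = φ := by
    intro E E' φ
    have sqE := EtOver.isPullback_bcObj hr E
    have sqE' := EtOver.isPullback_bcObj hr E'
    obtain ⟨ψ, ⟨hψ1, hψ2⟩, hu⟩ := TopInv.fullyFaithful hX hY h1 h2 h3 (IsAlgSpace.yon_obj E.obj.left)
      (IsAlgSpace.yon_obj E'.obj.left) (IsAlgSpace.yon_obj _) (isEtaleMor_obj_hom hY E') sqE sqE'
      ((yon S).map φ.hom.left) (EtOver.w φ)
    obtain ⟨k, rfl⟩ := (yon S).map_surjective ψ
    refine ⟨EtOver.homMk k hψ1, ?_, fun χ hχ => ?_⟩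
    · refine EtOver.hom_ext _ _ (hr.hom_ext ?_ ?_)
      · exact (EtOver.w ((EtOver.bc hr).map (EtOver.homMk k hψ1))).trans (EtOver.w φ).symm
      · refine (EtOver.bcMap_snd hr (EtOver.homMk k hψ1)).trans ((yon S).map_injective ?_)
        refine ((yon S).map_comp _ _).trans (Eq.trans ?_ ((yon S).map_comp _ _).symm)
        exact hψ2
    · refine EtOver.hom_ext _ _ ((yon S).map_injective (hu ((yon S).map χ.hom.left) ⟨EtOver.w χ, ?_⟩))
      have h := congrArg (fun t : (EtOver.bc hr).obj E ⟶ (EtOver.bc hr).obj E' => t.hom.left ≫ hr.snd E'.obj.hom) hχ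
      refine ((yon S).map_comp _ _).symm.trans (Eq.trans ?_ ((yon S).map_comp _ _))
      exact congrArg (yon S).map ((EtOver.bcMap_snd hr χ).symm.trans h)
  exact ⟨⟨fun φ => ⟨(key φ).choose, (key φ).choose_spec.1⟩⟩,
    ⟨fun {E E'} a b h => (key ((EtOver.bc hr).map b)).unique h rfl⟩⟩

include hX hY h1 h2 h3 in
theorem isEquivalence_bc
    (hrep : ∀ (V : EtOver X) (V' : Sp S) (a : V' ⟶ Y) (c : (yon S).obj V.obj.left ⟶ V'),
      IsAlgSpace V' → IsPullback V.obj.hom c f a → ∃ M : Over S, Nonempty ((yon S).obj M ≅ V')) :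
    (EtOver.bc hr).IsEquivalence := by
  obtain ⟨_, _⟩ := full_and_faithful_bc hr hX hY h1 h2 h3
  have : (EtOver.bc hr).EssSurj := ⟨fun V => by
    obtain ⟨V', a, c, hV', ha, sq⟩ := TopInv.essSurj hX hY h1 h2 h3 (IsAlgSpace.yon_obj V.obj.left)
      (isEtaleMor_obj_hom hX V)
    obtain ⟨M, ⟨μ⟩⟩ := hrep V V' a c hV' sq
    have hae : RepWith @Etale (μ.hom ≫ a) :=
      H12AlgSp.repWith_of_locP etLocal_etale hY (hY.representable_from_yon _)
        (H12AlgSp.locP_etale_of_isEtaleMor (LocalST.isEtaleMor_comp (fun _ φ hφ => MorphismProperty.RespectsIso.postcomp (P := RepWith @Etale) μ.hom φ hφ) ha))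
    let E : EtOver Y := EtOver.mk (μ.hom ≫ a) hae
    have sq2 : IsPullback V.obj.hom (c ≫ μ.inv) f E.obj.hom :=
      sq.of_iso (Iso.refl _) (Iso.refl _) μ.symm (Iso.refl _) (by simp) (by simp) (by simp) (by simp [E])
    let θ := (EtOver.isPullback_bcObj hr E).isoIsPullback _ _ sq2
    refine ⟨E, ⟨ObjectProperty.isoMk _ (CostructuredArrow.isoMk ((yon S).preimageIso θ) ?_)⟩⟩
    rw [show (yon S).map ((yon S).preimageIso θ).hom = θ.hom from (yon S).map_preimage _]
    exact (EtOver.isPullback_bcObj hr E).isoIsPullback_hom_fst _ _ sq2⟩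
  exact { }

end Groth.Agent.H13AlgSp.ThickAff
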