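import Mathlib

/-!
Flat descent of modules in the language of coactions.
-/

universe u

open TensorProduct

set_option backward.isDefEq.respectTransparency false
set_option backward.isDefEq.respectTransparency.types false

namespace Groth.Agent.H13AlgSp.ThickAff

variable {A B : Type u} [CommRing A] [CommRing B] [Algebra A B]
  {L : Type u} [AddCommGroup L] [Module A L] [Module B L] [IsScalarTower A B L]

/-- The action map. -/
noncomputable def act (L : Type u) [AddCommGroup L] [Module A L] [Module B L] [IsScalarTower A B L] :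
    B ⊗[A] L →ₗ[B] L :=
  LinearMap.liftBaseChange B LinearMap.id

theorem act_tmul (b : B) (l : L) : act (A := A) L (b ⊗ₜ[A] l) = b • l := by
  simp [act]

/-- A coaction with its counit and coassociativity. -/
structure Coaction (A B L : Type u) [CommRing A] [CommRing B] [Algebra A B]
    [AddCommGroup L] [Module A L] [Module B L] [IsScalarTower A B L] where
  d : L →ₗ[B] B ⊗[A] L
  counit : ∀ l, act (A := A) L (d l) = l
  coassoc : ∀ l, (d.restrictScalars A).lTensor B (d l) = (TensorProduct.mk A B L 1).lTensor B (d l)

namespace Coaction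

variable (D : Coaction A B L)

/-- The difference of the coaction and the trivial coaction. -/
noncomputable def diff : L →ₗ[A] B ⊗[A] L := D.d.restrictScalars A - TensorProduct.mk A B L 1

/-- The fixed elements. -/
noncomputable def fixed : Submodule A L := LinearMap.ker D.diff

theorem mem_fixed {l : L} : l ∈ D.fixed ↔ D.d l = 1 ⊗ₜ[A] l := by
  rw [fixed, LinearMap.mem_ker, diff, LinearMap.sub_apply, sub_eq_zero]
  rfl

theorem eq_d_act {x : B ⊗[A] L} (hx : D.diff.lTensor B x = 0) : x = D.d (act L x) := by
  have h1 : act (A := A) (B ⊗[A] L) ((D.d.restrictScalars A).lTensor B x) = D.d (act L x) := by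
    clear hx
    induction x using TensorProduct.induction_on with
    | zero => simp
    | add x y hx hy => simp only [map_add, hx, hy]
    | tmul b l => simp [act_tmul]
  have h2 : act (A := A) (B ⊗[A] L) ((TensorProduct.mk A B L 1).lTensor B x) = x := by
    clear hx h1
    induction x using TensorProduct.induction_on with
    | zero => simp
    | add x y hx hy => simp only [map_add, hx, hy]
    | tmul b l => simp [act_tmul, TensorProduct.smul_tmul']
  rw [diff, LinearMap.lTensor_sub, LinearMap.sub_apply, sub_eq_zero] at hx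
  rw [← h1, hx, h2]

variable [Module.Flat A B]

/-- Effectivity of descent: the fixed elements give back the module. -/
theorem bijective_act_fixed :
    Function.Bijective ((act (A := A) (B := B) L) ∘ (D.fixed.subtype.lTensor B)) := by
  have hex := Module.Flat.lTensor_exact B (LinearMap.exact_subtype_ker_map D.diff)
  have hker : ∀ y : B ⊗[A] D.fixed, D.diff.lTensor B (D.fixed.subtype.lTensor B y) = 0 :=
    fun y => (hex _).2 ⟨y, rfl⟩
  constructor
  · intro y z h
    refine Module.Flat.lTensor_preserves_injective_linearMap D.fixed.subtype D.fixed.injective_subtype ?_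
    rw [D.eq_d_act (hker y), D.eq_d_act (hker z)]
    exact congrArg D.d h
  · intro l
    obtain ⟨y, hy⟩ := (hex (D.d l)).1 (by
      rw [diff, LinearMap.lTensor_sub, LinearMap.sub_apply, D.coassoc, sub_self])
    exact ⟨y, (congrArg (act L) hy).trans (D.counit l)⟩

omit [Module.Flat A B] in
/-- Cocycles are coboundaries along a faithfully flat algebra. -/
theorem exists_of_cocycle [Module.FaithfullyFlat A B] (δ : B ⊗[A] L)
    (h : (D.d.restrictScalars A).lTensor B δ + 1 ⊗ₜ[A] δ = (TensorProduct.mk A B L 1).lTensor B δ) :
    ∃ l, D.d l + δ = 1 ⊗ₜ[A] l := by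
  obtain ⟨q, hq⟩ : ∃ q, q = (LinearMap.range D.diff).mkQ := ⟨_, rfl⟩
  have h1 : (1 : B) ⊗ₜ[A] δ = -(D.diff.lTensor B δ) := by
    rw [diff, LinearMap.lTensor_sub, LinearMap.sub_apply, ← h]
    abel
  have h2 : q δ = 0 := by
    refine Module.FaithfullyFlat.tensorProduct_mk_injective (A := A) (B := B) _ ?_
    rw [map_zero]
    show (1 : B) ⊗ₜ[A] q δ = 0
    rw [← LinearMap.lTensor_tmul, h1, map_neg, ← LinearMap.lTensor_comp_apply,
      show q ∘ₗ D.diff = 0 from LinearMap.ext fun x => by rw [hq]; simp, LinearMap.lTensor_zero,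
      LinearMap.zero_apply, neg_zero]
  rw [hq, Submodule.mkQ_apply, Submodule.Quotient.mk_eq_zero] at h2
  obtain ⟨l, hl⟩ := h2
  refine ⟨-l, ?_⟩
  rw [← hl, diff, LinearMap.sub_apply, map_neg, tmul_neg]
  change -(D.d l) + (D.d l - (1 : B) ⊗ₜ[A] l) = _
  abel

end Coaction

end Groth.Agent.H13AlgSp.ThickAff
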