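import Groth.Agent.H13AlgSp.ThickAff.Step
import Groth.Agent.H13AlgSp.ThickAff.Comodule
import Groth.Agent.H02CA.EtaleLift

/-!
An etale relation which is the kernel pair of a cover modulo a square zero ideal is itself one.
-/

universe u

open TensorProduct

set_option backward.isDefEq.respectTransparency false
set_option backward.isDefEq.respectTransparency.types false

namespace Groth.Agent.H13AlgSp.ThickAff

variable {B C : Type u} [CommRing B] [CommRing C]

/-- The scalar actions on the quotient commute. -/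
theorem smulCommClass_quot (I : Ideal B) (A : Type u) [CommRing A] [Algebra A (B ⧸ I)] :
    SMulCommClass A B (B ⧸ I) :=
  ⟨fun a b x => by
    rw [Algebra.smul_def, Algebra.smul_def, Algebra.smul_def, Algebra.smul_def, mul_left_comm]⟩

attribute [local instance] smulCommClass_quot

/-- Additive maps out of a tensor product of a quotient ring given on representatives. -/
theorem exists_liftQuot (I : Ideal B) (A : Type u) [CommRing A] [Algebra A (B ⧸ I)] {M : Type u} [AddCommGroup M]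
    [Module A M] {P : Type u} [AddCommGroup P] (F : B →+ M →+ P) (h0 : ∀ i ∈ I, F i = 0)
    (hbal : ∀ (a : A) (x b : B) (m : M), Ideal.Quotient.mk I x = algebraMap A (B ⧸ I) a →
      F (x * b) m = F b (a • m)) :
    ∃ N : (B ⧸ I) ⊗[A] M →+ P, ∀ b m, N (Ideal.Quotient.mk I b ⊗ₜ[A] m) = F b m := by
  have hF : ∀ b b' : B, Ideal.Quotient.mk I b = Ideal.Quotient.mk I b' → F b = F b' := fun b b' h => by
    rw [← sub_eq_zero, ← map_sub]
    exact h0 _ (Ideal.Quotient.eq.1 h)
  refine ⟨TensorProduct.liftAddHom (AddMonoidHom.mk' (fun b : B ⧸ I => F (Quotient.out b)) fun b b' => ?_)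
    fun a b m => ?_, fun b m => ?_⟩
  · rw [← map_add]
    refine hF _ _ ?_
    rw [map_add]
    simp only [Ideal.Quotient.mk_out]
  · obtain ⟨x, hx⟩ := Ideal.Quotient.mk_surjective (algebraMap A (B ⧸ I) a)
    show F (Quotient.out (a • b)) m = F (Quotient.out b) (a • m)
    rw [← hbal a x (Quotient.out b) m hx, hF (Quotient.out (a • b)) (x * Quotient.out b)]
    rw [map_mul, hx, Ideal.Quotient.mk_out, Ideal.Quotient.mk_out, Algebra.smul_def]
  · refine (TensorProduct.liftAddHom_tmul _ _ _ _).trans ?_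
    exact DFunLike.congr_fun (hF (Quotient.out (Ideal.Quotient.mk I b)) b (Ideal.Quotient.mk_out _)) m

namespace Restr

variable {G : RingRel B C} {I : Ideal B} {A : Type u} [CommRing A] [Algebra A (B ⧸ I)] (W : Restr G I A)

section modules

variable {M : Type u} [AddCommGroup M] [Module (B ⧸ I) M] [Module A M] [IsScalarTower A (B ⧸ I) M]
  [Module B M] [IsScalarTower B (B ⧸ I) M]

omit [Module A M] [IsScalarTower A (B ⧸ I) M] [Algebra A (B ⧸ I)] in
theorem mk_smul (b : B) (m : M) : Ideal.Quotient.mk I b • m = b • m := algebraMap_smul _ b m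

omit [Module A M] [IsScalarTower A (B ⧸ I) M] [Algebra A (B ⧸ I)] in
theorem tmul_eq_zero (m : M) {z : C} (hz : z ∈ I.map G.s) : m ⊗ₜ[B] Via.mk G.s z = 0 := by
  suffices h : ∀ c : C, m ⊗ₜ[B] Via.mk G.s (c * z) = 0 by simpa using h 1
  refine Submodule.span_induction ?_ (fun c => by rw [mul_zero, map_zero, tmul_zero]) ?_ ?_ hz
  · rintro _ ⟨i, hi, rfl⟩ c
    rw [show Via.mk G.s (c * G.s i) = i • Via.mk G.s c from mul_comm c (G.s i), ← TensorProduct.smul_tmul,
      ← mk_smul (I := I), Ideal.Quotient.eq_zero_iff_mem.2 hi, zero_smul, zero_tmul]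
  · intro x y _ _ hx hy c
    rw [mul_add, map_add, tmul_add, hx, hy, add_zero]
  · intro a x _ hx c
    rw [smul_eq_mul, ← mul_assoc]
    exact hx _

omit [Module A M] [IsScalarTower A (B ⧸ I) M] [Algebra A (B ⧸ I)] in
theorem tmul_congr (m : M) {c c' : C} (h : c - c' ∈ I.map G.s) :
    m ⊗ₜ[B] Via.mk G.s c = m ⊗ₜ[B] Via.mk G.s c' := by
  rw [← sub_eq_zero, ← tmul_sub, ← map_sub]
  exact tmul_eq_zero (I := I) m h

/-- The left factor of a tensor over the base read along the target map. -/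
noncomputable def θ (hI : G.Inv I) : (B ⧸ I) ⊗[A] M →+ M ⊗[B] Via G.s :=
  TensorProduct.liftAddHom
    (AddMonoidHom.mk' (fun b => AddMonoidHom.mk' (fun m => m ⊗ₜ[B] Via.mk G.s (G.t (Quotient.out b)))
        fun m n => TensorProduct.add_tmul _ _ _)
      fun b b' => AddMonoidHom.ext fun m => by
        show m ⊗ₜ[B] _ = m ⊗ₜ[B] _ + m ⊗ₜ[B] _
        rw [← tmul_add, ← map_add, ← map_add]
        refine tmul_congr (I := I) m ?_
        rw [← map_sub, hI]
        refine Ideal.mem_map_of_mem _ (Ideal.Quotient.eq.1 ?_)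
        rw [map_add]
        simp only [Ideal.Quotient.mk_out])
    fun a b m => by
      obtain ⟨b, rfl⟩ := Ideal.Quotient.mk_surjective b
      obtain ⟨x, hx⟩ := Ideal.Quotient.mk_surjective (algebraMap A (B ⧸ I) a)
      show m ⊗ₜ[B] Via.mk G.s (G.t (Quotient.out (a • Ideal.Quotient.mk I b))) =
        (a • m) ⊗ₜ[B] Via.mk G.s (G.t (Quotient.out (Ideal.Quotient.mk I b)))
      rw [← algebraMap_smul (B ⧸ I) a m, ← hx, mk_smul, TensorProduct.smul_tmul,
        show ∀ y, x • Via.mk G.s y = Via.mk G.s (G.s x * y) from fun _ => rfl]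
      refine tmul_congr (I := I) m ?_
      show G.t _ - G.s x * G.t _ ∈ _
      have h1 : G.t (Quotient.out (a • Ideal.Quotient.mk I b)) - G.t (x * Quotient.out (Ideal.Quotient.mk I b)) ∈
          I.map G.s := by
        rw [← map_sub, hI]
        refine Ideal.mem_map_of_mem _ (Ideal.Quotient.eq.1 ?_)
        rw [map_mul, Algebra.smul_def, hx]
        simp only [Ideal.Quotient.mk_out]
      have h2 := add_mem h1 (Ideal.mul_mem_right (G.t (Quotient.out (Ideal.Quotient.mk I b))) _ (W.t_sub_s_mem hx))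
      rwa [map_mul, sub_mul, sub_add_sub_cancel] at h2

theorem θ_tmul (hI : G.Inv I) (b : B) (m : M) :
    W.θ hI (Ideal.Quotient.mk I b ⊗ₜ[A] m) = m ⊗ₜ[B] Via.mk G.s (G.t b) := by
  refine (TensorProduct.liftAddHom_tmul _ _ _ _).trans (tmul_congr (I := I) m ?_)
  rw [← map_sub, hI]
  exact Ideal.mem_map_of_mem _ (Ideal.Quotient.eq.1 (Ideal.Quotient.mk_out _))

/-- The inverse of the comparison of the reduced relation with the pairs. -/
noncomputable def ψinv : C →+* (B ⧸ I) ⊗[A] (B ⧸ I) :=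
  (RingEquiv.ofBijective W.ψ W.bij).symm.toRingHom.comp (Ideal.Quotient.mk (I.map G.s))

theorem ψ_ψinv (c : C) : W.ψ (W.ψinv c) = Ideal.Quotient.mk _ c :=
  (RingEquiv.ofBijective W.ψ W.bij).apply_symm_apply _

theorem ψinv_mul (b u : B) : W.ψinv (G.t b * G.s u) = Ideal.Quotient.mk I b ⊗ₜ[A] Ideal.Quotient.mk I u :=
  W.bij.1 ((W.ψ_ψinv _).trans (W.ψ_tmul b u).symm)

/-- The map spanned by an element. -/
noncomputable def sp (m : M) : (B ⧸ I) →ₗ[A] M :=
  (LinearMap.toSpanSingleton (B ⧸ I) M m).restrictScalars A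

/-- The right inverse of the comparison. -/
noncomputable def Ψ : M ⊗[B] Via G.s →+ (B ⧸ I) ⊗[A] M :=
  TensorProduct.liftAddHom
    (AddMonoidHom.mk' (fun m => ((sp (A := A) m).lTensor (B ⧸ I)).toAddMonoidHom.comp
        (show Via G.s →+ (B ⧸ I) ⊗[A] (B ⧸ I) from W.ψinv.toAddMonoidHom))
      fun m n => AddMonoidHom.ext fun c => by
        show (sp (A := A) (m + n)).lTensor (B ⧸ I) _ = (sp (A := A) m).lTensor _ _ + (sp (A := A) n).lTensor _ _
        rw [show sp (A := A) (m + n) = sp (A := A) m + sp (A := A) n from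
          LinearMap.ext fun x => smul_add x m n, LinearMap.lTensor_add]
        rfl)
    fun b m c' => by
      obtain ⟨c, rfl⟩ : ∃ c : C, Via.mk G.s c = c' := ⟨c', rfl⟩
      show (sp (A := A) (b • m)).lTensor (B ⧸ I) (W.ψinv c) = (sp (A := A) m).lTensor (B ⧸ I) (W.ψinv (G.s b * c))
      rw [map_mul, show W.ψinv (G.s b) = (1 : B ⧸ I) ⊗ₜ[A] Ideal.Quotient.mk I b by
        rw [← one_mul (G.s b), ← map_one G.t, W.ψinv_mul, map_one]]
      generalize W.ψinv c = y
      induction y using TensorProduct.induction_on with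
      | zero => simp
      | add x y hx hy => simp only [mul_add, map_add, hx, hy]
      | tmul u v =>
        rw [Algebra.TensorProduct.tmul_mul_tmul, one_mul, LinearMap.lTensor_tmul, LinearMap.lTensor_tmul]
        simp [sp, ← mk_smul (I := I) b m, smul_smul, mul_comm]

theorem Ψ_tmul (m : M) (c : C) :
    W.Ψ (m ⊗ₜ[B] Via.mk G.s c) = (sp (A := A) m).lTensor (B ⧸ I) (W.ψinv c) :=
  TensorProduct.liftAddHom_tmul _ _ _ _

theorem θ_bijective (hI : G.Inv I) : Function.Bijective (W.θ (M := M) hI) := by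
  have h1 : ∀ x, W.Ψ (W.θ hI x) = (x : (B ⧸ I) ⊗[A] M) := fun x => by
    induction x using TensorProduct.induction_on with
    | zero => simp
    | add x y hx hy => simp only [map_add, hx, hy]
    | tmul b m =>
      obtain ⟨b, rfl⟩ := Ideal.Quotient.mk_surjective b
      rw [θ_tmul, Ψ_tmul, ← mul_one (G.t b), ← map_one G.s, W.ψinv_mul, LinearMap.lTensor_tmul, map_one]
      simp [sp]
  have h2 : ∀ (m : M) (y : (B ⧸ I) ⊗[A] (B ⧸ I)), ∃ c, W.ψ y = Ideal.Quotient.mk _ c ∧
      W.θ hI ((sp (A := A) m).lTensor (B ⧸ I) y) = m ⊗ₜ[B] Via.mk G.s c := fun m y => by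
    induction y using TensorProduct.induction_on with
    | zero => exact ⟨0, by simp⟩
    | add x y hx hy =>
      obtain ⟨c, hc, hx⟩ := hx
      obtain ⟨c', hc', hy⟩ := hy
      exact ⟨c + c', by rw [map_add, hc, hc', map_add], by rw [map_add, map_add, hx, hy, map_add, tmul_add]⟩
    | tmul b u =>
      obtain ⟨b, rfl⟩ := Ideal.Quotient.mk_surjective b
      obtain ⟨u, rfl⟩ := Ideal.Quotient.mk_surjective u
      refine ⟨G.t b * G.s u, W.ψ_tmul b u, ?_⟩
      rw [LinearMap.lTensor_tmul, θ_tmul, show sp (A := A) m (Ideal.Quotient.mk I u) = u • m from mk_smul u m,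
        TensorProduct.smul_tmul, mul_comm]
      rfl
  refine ⟨Function.LeftInverse.injective h1, fun z => ?_⟩
  induction z using TensorProduct.induction_on with
  | zero => exact ⟨0, map_zero _⟩
  | add x y hx hy =>
    obtain ⟨x', hx⟩ := hx
    obtain ⟨y', hy⟩ := hy
    exact ⟨x' + y', by rw [map_add, hx, hy]⟩
  | tmul m c =>
    obtain ⟨c', hc', h⟩ := h2 m (W.ψinv c)
    exact ⟨_, h.trans (tmul_congr (I := I) m (Ideal.Quotient.eq.1 (hc'.symm.trans (W.ψ_ψinv c))))⟩

end modules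

section ideal

variable {L : Type u} [AddCommGroup L] [Module (B ⧸ I) L] [Module A L] [IsScalarTower A (B ⧸ I) L]
  [Module B L] [IsScalarTower B (B ⧸ I) L] (ι : L →ₗ[B] B) (hI : G.Inv I)

/-- The extension of the ideal as a tensor product over the base. -/
noncomputable def Φ : (B ⧸ I) ⊗[A] L →+ C :=
  show (B ⧸ I) ⊗[A] L →+ Via G.s from
    ((TensorProduct.lid B (Via G.s)).toLinearMap ∘ₗ ι.rTensor (Via G.s)).toAddMonoidHom.comp (W.θ hI)

theorem Φ_tmul (b : B) (l : L) : W.Φ ι hI (Ideal.Quotient.mk I b ⊗ₜ[A] l) = G.s (ι l) * G.t b := by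
  refine Eq.trans (congrArg (fun z => TensorProduct.lid B (Via G.s) (ι.rTensor (Via G.s) z)) (W.θ_tmul hI b l)) ?_
  rw [LinearMap.rTensor_tmul, TensorProduct.lid_tmul]
  rfl

theorem Φ_injective (hι : Function.Injective ι) : Function.Injective (W.Φ ι hI) :=
  ((TensorProduct.lid B (Via G.s)).injective.comp
    (Module.Flat.rTensor_preserves_injective_linearMap ι hι)).comp (W.θ_bijective hI).1

theorem Φ_smul (b : B) (y : (B ⧸ I) ⊗[A] L) :
    W.Φ ι hI (Ideal.Quotient.mk I b • y) = G.t b * W.Φ ι hI y := by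
  induction y using TensorProduct.induction_on with
  | zero => simp
  | add x y hx hy => rw [smul_add, map_add, map_add, hx, hy, mul_add]
  | tmul u l =>
    obtain ⟨u, rfl⟩ := Ideal.Quotient.mk_surjective u
    rw [TensorProduct.smul_tmul', smul_eq_mul, ← map_mul, Φ_tmul, Φ_tmul, map_mul]
    ring

theorem exists_Φ_eq (hr : ∀ x ∈ I, ∃ l, ι l = x) {z : C} (hz : z ∈ I.map G.s) : ∃ y, W.Φ ι hI y = z := by
  suffices h : ∀ c : C, ∃ y, W.Φ ι hI y = c * z by simpa using h 1
  refine Submodule.span_induction ?_ (fun c => ⟨0, by simp⟩) ?_ ?_ hz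
  · rintro _ ⟨i, hi, rfl⟩ c
    obtain ⟨l, rfl⟩ := hr i hi
    obtain ⟨y, hy⟩ := (W.θ_bijective hI).2 (l ⊗ₜ[B] Via.mk G.s c)
    refine ⟨y, ?_⟩
    show TensorProduct.lid B (Via G.s) (ι.rTensor (Via G.s) (W.θ hI y)) = _
    rw [hy, LinearMap.rTensor_tmul, TensorProduct.lid_tmul]
    exact mul_comm (G.s (ι l)) c
  · intro x x' _ _ hx hx' c
    obtain ⟨y, hy⟩ := hx c
    obtain ⟨y', hy'⟩ := hx' c
    exact ⟨y + y', by rw [map_add, hy, hy', mul_add]⟩
  · intro a x _ hx c
    rw [smul_eq_mul, ← mul_assoc]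
    exact hx _

/-- The comparison read along the target map. -/
noncomputable def Φt : (B ⧸ I) ⊗[A] L →ₗ[B] Via G.t where
  toFun := fun y => Via.mk G.t (W.Φ ι hI y)
  map_add' x y := by rw [map_add (W.Φ ι hI), map_add]
  map_smul' b y := by
    rw [← mk_smul (I := I) b y, Φ_smul]
    rfl

theorem Φt_apply (y : (B ⧸ I) ⊗[A] L) : W.Φt ι hI y = Via.mk G.t (W.Φ ι hI y) := rfl

/-- The comparison on pairs of arrows. -/
noncomputable def Φ₂ : (B ⧸ I) ⊗[A] ((B ⧸ I) ⊗[A] L) →+ Via G.t ⊗[B] Via G.s :=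
  ((W.Φt ι hI).rTensor (Via G.s)).toAddMonoidHom.comp (W.θ hI)

theorem Φ₂_tmul (b : B) (y : (B ⧸ I) ⊗[A] L) :
    W.Φ₂ ι hI (Ideal.Quotient.mk I b ⊗ₜ[A] y) = Via.mk G.t (W.Φ ι hI y) ⊗ₜ[B] Via.mk G.s (G.t b) := by
  show (W.Φt ι hI).rTensor (Via G.s) (W.θ hI _) = _
  rw [θ_tmul, LinearMap.rTensor_tmul, Φt_apply]

theorem Φ₂_injective (hι : Function.Injective ι) : Function.Injective (W.Φ₂ ι hI) :=
  (Module.Flat.rTensor_preserves_injective_linearMap (W.Φt ι hI) (W.Φ_injective ι hI hι)).comp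
    (W.θ_bijective hI).1

theorem Φ₂_ins (y : (B ⧸ I) ⊗[A] L) :
    W.Φ₂ ι hI ((TensorProduct.mk A (B ⧸ I) L 1).lTensor (B ⧸ I) y) = G.comp (W.Φ ι hI y) := by
  induction y using TensorProduct.induction_on with
  | zero => simp
  | add x y hx hy => simp only [map_add, hx, hy]
  | tmul u l =>
    obtain ⟨u, rfl⟩ := Ideal.Quotient.mk_surjective u
    rw [LinearMap.lTensor_tmul, TensorProduct.mk_apply, Φ₂_tmul, ← map_one (Ideal.Quotient.mk I), Φ_tmul, Φ_tmul,
      map_one G.t, mul_one, map_mul, G.comp_s, G.comp_t, Algebra.TensorProduct.tmul_mul_tmul, mul_one, one_mul]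

theorem Φ₂_one_tmul (y : (B ⧸ I) ⊗[A] L) :
    W.Φ₂ ι hI (1 ⊗ₜ[A] y) = Via.mk G.t (W.Φ ι hI y) ⊗ₜ[B] 1 := by
  rw [← map_one (Ideal.Quotient.mk I), Φ₂_tmul, map_one G.t]
  rfl

theorem exists_coaction (hι : Function.Injective ι) (hr : ∀ x, x ∈ I ↔ ∃ l, ι l = x) :
    ∃ D : Coaction A (B ⧸ I) L, (∀ l, W.Φ ι hI (D.d l) = G.t (ι l)) ∧
      ∀ y, W.Φ₂ ι hI ((D.d.restrictScalars A).lTensor (B ⧸ I) y) = 1 ⊗ₜ[B] Via.mk G.s (W.Φ ι hI y) := by
  have hex : ∀ l, ∃ y, W.Φ ι hI y = G.t (ι l) := fun l => by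
    refine W.exists_Φ_eq ι hI (fun x hx => (hr x).1 hx) ?_
    rw [hI]
    exact Ideal.mem_map_of_mem _ ((hr _).2 ⟨l, rfl⟩)
  choose d hd using hex
  have hinj := W.Φ_injective ι hI hι
  let dl : L →ₗ[B ⧸ I] (B ⧸ I) ⊗[A] L :=
  { toFun := d
    map_add' := fun x y => hinj (by rw [map_add, hd, hd, hd, map_add, map_add])
    map_smul' := fun b l => hinj (by
      obtain ⟨b, rfl⟩ := Ideal.Quotient.mk_surjective b
      rw [RingHom.id_apply, Φ_smul, hd, hd, mk_smul, map_smul, smul_eq_mul, map_mul]) }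
  have hT : ∀ y, W.Φ₂ ι hI ((dl.restrictScalars A).lTensor (B ⧸ I) y) =
      1 ⊗ₜ[B] Via.mk G.s (W.Φ ι hI y) := fun y => by
    induction y using TensorProduct.induction_on with
    | zero => simp
    | add x y hx hy => simp only [map_add, hx, hy, tmul_add]
    | tmul u l =>
      obtain ⟨u, rfl⟩ := Ideal.Quotient.mk_surjective u
      rw [LinearMap.lTensor_tmul, Φ₂_tmul, LinearMap.restrictScalars_apply,
        show W.Φ ι hI (dl l) = G.t (ι l) from hd l, Φ_tmul,
        show Via.mk G.t (G.t (ι l)) = ι l • (1 : Via G.t) from (mul_one (G.t (ι l))).symm, TensorProduct.smul_tmul]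
      rfl
  refine ⟨⟨dl, fun l => hι ?_, fun l => W.Φ₂_injective ι hI hι ?_⟩, hd, hT⟩
  · have h : ∀ y, ι (act (A := A) L y) = G.e (W.Φ ι hI y) := fun y => by
      induction y using TensorProduct.induction_on with
      | zero => simp
      | add x y hx hy => simp only [map_add, hx, hy]
      | tmul u l =>
        obtain ⟨u, rfl⟩ := Ideal.Quotient.mk_surjective u
        rw [act_tmul, mk_smul, map_smul, Φ_tmul, map_mul, G.e_s, G.e_t, smul_eq_mul, mul_comm]
    rw [h, show W.Φ ι hI (dl l) = G.t (ι l) from hd l, G.e_t]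
  · rw [hT, Φ₂_ins, show W.Φ ι hI (dl l) = G.t (ι l) from hd l, G.comp_t]

end ideal

/-- The invariant functions. -/
def inv₀ (G : RingRel B C) : Subring B := RingHom.eqLocus G.t G.s

theorem mem_inv₀ {x : B} : x ∈ inv₀ G ↔ G.t x = G.s x := Iff.rfl

section pairs

variable {L : Type u} [AddCommGroup L] [Module (B ⧸ I) L] [Module A L] [IsScalarTower A (B ⧸ I) L]
  [Module B L] [IsScalarTower B (B ⧸ I) L] (ι : L →ₗ[B] B)

set_option maxHeartbeats 400000 in
include W in
/-- The pairs over the invariant functions are the arrows. -/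
theorem exists_χ (hI : G.Inv I) (hι : Function.Injective ι) (hr : ∀ x, x ∈ I ↔ ∃ l, ι l = x)
    (hsq : ∀ x ∈ I, ∀ y ∈ I, x * y = 0)
    (hlift : ∀ a : A, ∃ x : inv₀ G, Ideal.Quotient.mk I (x : B) = algebraMap A (B ⧸ I) a)
    (hgen : ∀ i ∈ I, i ∈ (I.comap (inv₀ G).subtype).map (inv₀ G).subtype) :
    ∃ χ : B ⊗[inv₀ G] B →+* C, (∀ b u, χ (b ⊗ₜ[inv₀ G] u) = G.t b * G.s u) ∧ Function.Bijective χ := by
  let : Algebra (inv₀ G) C := (G.s.comp (inv₀ G).subtype).toAlgebra
  let χ : B ⊗[inv₀ G] B →+* C :=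
    (Algebra.TensorProduct.lift ({ G.t with commutes' := fun x => x.2 } : B →ₐ[inv₀ G] C)
      ({ G.s with commutes' := fun x => rfl } : B →ₐ[inv₀ G] C) fun _ _ => Commute.all _ _).toRingHom
  have hχ : ∀ b u, χ (b ⊗ₜ[inv₀ G] u) = G.t b * G.s u := fun b u => Algebra.TensorProduct.lift_tmul _ _ _ b u
  let T : AddSubgroup (B ⊗[inv₀ G] B) :=
    AddSubgroup.closure {z | ∃ b v, v ∈ I ∧ z = b ⊗ₜ[inv₀ G] v}
  have hright : ∀ b v : B, v ∈ I → b ⊗ₜ[inv₀ G] v ∈ T := fun b v hv =>
    AddSubgroup.subset_closure ⟨b, v, hv, rfl⟩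
  have hleft : ∀ i ∈ I, ∀ u : B, i ⊗ₜ[inv₀ G] u ∈ T := by
    intro i hi u
    suffices h : ∀ c : B, (c * i) ⊗ₜ[inv₀ G] u ∈ T by simpa using h 1
    refine Submodule.span_induction ?_ (fun c => by rw [mul_zero, zero_tmul]; exact zero_mem T) ?_ ?_ (hgen i hi)
    · rintro _ ⟨m, hm, rfl⟩ c
      rw [show c * (inv₀ G).subtype m = m • c from mul_comm c (m : B), TensorProduct.smul_tmul]
      exact hright c _ (I.mul_mem_right u hm)
    · intro x y _ _ hx hy c
      rw [mul_add, add_tmul]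
      exact add_mem (hx c) (hy c)
    · intro a x _ hx c
      rw [smul_eq_mul, ← mul_assoc]
      exact hx _
  have hII : ∀ i ∈ I, ∀ v ∈ I, i ⊗ₜ[inv₀ G] v = 0 := by
    intro i hi v hv
    suffices h : ∀ c : B, (c * i) ⊗ₜ[inv₀ G] v = 0 by simpa using h 1
    refine Submodule.span_induction ?_ (fun c => by rw [mul_zero, zero_tmul]) ?_ ?_ (hgen i hi)
    · rintro _ ⟨m, hm, rfl⟩ c
      rw [show c * (inv₀ G).subtype m = m • c from mul_comm c (m : B), TensorProduct.smul_tmul,
        show m • v = 0 from hsq _ hm _ hv, tmul_zero]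
    · intro x y _ _ hx hy c
      rw [mul_add, add_tmul, hx c, hy c, add_zero]
    · intro a x _ hx c
      rw [smul_eq_mul, ← mul_assoc]
      exact hx _
  have hιI : ∀ l, ι l ∈ I := fun l => (hr _).2 ⟨l, rfl⟩
  have hι_smul : ∀ (a : A) (x : inv₀ G) (l : L), Ideal.Quotient.mk I (x : B) = algebraMap A (B ⧸ I) a →
      ι (a • l) = x • ι l := fun a x l hx => by
    rw [← algebraMap_smul (B ⧸ I) a l, ← hx, mk_smul, map_smul]
    rfl
  obtain ⟨Z, hZ⟩ := exists_liftQuot I A
    (AddMonoidHom.mk' (fun b : B => AddMonoidHom.mk' (fun l : L => b ⊗ₜ[inv₀ G] ι l)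
        fun l l' => by rw [map_add, tmul_add])
      fun b b' => AddMonoidHom.ext fun l => add_tmul b b' (ι l))
    (fun i hi => AddMonoidHom.ext fun l => hII i hi _ (hιI l))
    (fun a y b l hy => by
      obtain ⟨x, hx⟩ := hlift a
      have h1 : (y * b) ⊗ₜ[inv₀ G] ι l = ((x : B) * b) ⊗ₜ[inv₀ G] ι l := by
        rw [← sub_eq_zero, ← sub_tmul, ← sub_mul]
        exact hII _ (I.mul_mem_right b (Ideal.Quotient.eq.1 (hy.trans hx.symm))) _ (hιI l)
      show (y * b) ⊗ₜ[inv₀ G] ι l = b ⊗ₜ[inv₀ G] ι (a • l)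
      rw [h1, hι_smul a x l hx, show (x : B) * b = x • b from rfl, TensorProduct.smul_tmul])
  simp only [AddMonoidHom.mk'_apply] at hZ
  have hTZ : T ≤ Z.range := by
    rw [AddSubgroup.closure_le]
    rintro _ ⟨b, v, hv, rfl⟩
    obtain ⟨l, rfl⟩ := (hr v).1 hv
    exact ⟨Ideal.Quotient.mk I b ⊗ₜ[A] l, hZ b l⟩
  have hq : ∀ {p q}, p - q ∈ T → QuotientAddGroup.mk' T p = QuotientAddGroup.mk' T q := fun h => by
    rw [← sub_eq_zero, ← map_sub]
    exact (QuotientAddGroup.eq_zero_iff _).2 h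
  obtain ⟨qT, hqT⟩ : ∃ q : B ⊗[inv₀ G] B →+ (B ⊗[inv₀ G] B) ⧸ T, q = QuotientAddGroup.mk' T := ⟨_, rfl⟩
  have hN1 : ∀ (b b' v : B), b - b' ∈ I → qT (b ⊗ₜ[inv₀ G] v) = qT (b' ⊗ₜ[inv₀ G] v) := fun b b' v h =>
    hqT ▸ hq (by rw [← sub_tmul]; exact hleft _ h v)
  have hN2 : ∀ (b v v' : B), v - v' ∈ I → qT (b ⊗ₜ[inv₀ G] v) = qT (b ⊗ₜ[inv₀ G] v') := fun b v v' h =>
    hqT ▸ hq (by rw [← tmul_sub]; exact hright b _ h)
  obtain ⟨N, hN⟩ := exists_liftQuot I A
    (AddMonoidHom.mk' (fun b : B => AddMonoidHom.mk' (fun v : B ⧸ I => qT (b ⊗ₜ[inv₀ G] Quotient.out v))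
        fun v v' => by
          rw [← map_add, ← tmul_add]
          refine hN2 _ _ _ (Ideal.Quotient.eq.1 ?_)
          rw [map_add]
          simp only [Ideal.Quotient.mk_out])
      fun b b' => AddMonoidHom.ext fun v => (congrArg qT (add_tmul b b' _)).trans (map_add qT _ _))
    (fun i hi => AddMonoidHom.ext fun v => by
      show qT (i ⊗ₜ[inv₀ G] Quotient.out v) = 0
      rw [hN1 i 0 _ (by rwa [sub_zero]), zero_tmul, map_zero])
    (fun a y b v hy => by
      obtain ⟨x, hx⟩ := hlift a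
      show qT ((y * b) ⊗ₜ[inv₀ G] Quotient.out v) = qT (b ⊗ₜ[inv₀ G] Quotient.out (a • v))
      rw [hN1 (y * b) (x • b) _ (by
          rw [show x • b = (x : B) * b from rfl, ← sub_mul]
          exact I.mul_mem_right b (Ideal.Quotient.eq.1 (hy.trans hx.symm))), TensorProduct.smul_tmul]
      refine hN2 _ _ _ (Ideal.Quotient.eq.1 ?_)
      rw [show x • Quotient.out v = (x : B) * Quotient.out v from rfl, map_mul, hx, Ideal.Quotient.mk_out,
        Ideal.Quotient.mk_out, Algebra.smul_def])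
  simp only [AddMonoidHom.mk'_apply] at hN
  refine ⟨χ, hχ, ?_, ?_⟩
  · rw [injective_iff_map_eq_zero]
    intro z hz
    have h1 : N (W.ψinv (χ z)) = qT z := by
      clear hz
      induction z using TensorProduct.induction_on with
      | zero => simp
      | add p q hp hq => simp only [map_add, hp, hq]
      | tmul b u =>
        rw [hχ, W.ψinv_mul, hN]
        exact hN2 _ _ u (Ideal.Quotient.eq.1 (Ideal.Quotient.mk_out _))
    rw [hz, map_zero, map_zero] at h1
    rw [hqT] at h1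
    obtain ⟨y, rfl⟩ := hTZ ((QuotientAddGroup.eq_zero_iff z).1 h1.symm)
    have hZΦ : ∀ y, χ (Z y) = W.Φ ι hI y := fun y => by
      induction y using TensorProduct.induction_on with
      | zero => simp
      | add p q hp hq => simp only [map_add, hp, hq]
      | tmul b l =>
        obtain ⟨b, rfl⟩ := Ideal.Quotient.mk_surjective b
        rw [hZ, hχ, Φ_tmul, mul_comm]
    rw [hZΦ] at hz
    rw [W.Φ_injective ι hI hι (hz.trans (map_zero _).symm), map_zero]
  · have h1 : ∀ y, ∃ p, Ideal.Quotient.mk (I.map G.s) (χ p) = W.ψ y := fun y => by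
      induction y using TensorProduct.induction_on with
      | zero => exact ⟨0, by simp⟩
      | add p q hp hq =>
        obtain ⟨p', hp⟩ := hp
        obtain ⟨q', hq⟩ := hq
        exact ⟨p' + q', by simp only [map_add, hp, hq]⟩
      | tmul b u =>
        obtain ⟨b, rfl⟩ := Ideal.Quotient.mk_surjective b
        obtain ⟨u, rfl⟩ := Ideal.Quotient.mk_surjective u
        exact ⟨b ⊗ₜ u, by rw [hχ, W.ψ_tmul]⟩
    have h2 : ∀ z ∈ I.map G.s, ∃ p, χ p = z := fun z hz => by
      obtain ⟨y, rfl⟩ := W.exists_Φ_eq ι hI (fun x hx => (hr x).1 hx) hz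
      clear hz
      induction y using TensorProduct.induction_on with
      | zero => exact ⟨0, by simp⟩
      | add p q hp hq =>
        obtain ⟨p', hp⟩ := hp
        obtain ⟨q', hq⟩ := hq
        exact ⟨p' + q', by simp only [map_add, hp, hq]⟩
      | tmul b l =>
        obtain ⟨b, rfl⟩ := Ideal.Quotient.mk_surjective b
        exact ⟨b ⊗ₜ ι l, by rw [hχ, Φ_tmul, mul_comm]⟩
    intro c
    obtain ⟨p, hp⟩ := h1 (W.ψinv c)
    obtain ⟨q, hq⟩ := h2 (c - χ p) (Ideal.Quotient.eq.1 ((W.ψ_ψinv c).symm.trans hp.symm))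
    exact ⟨p + q, by rw [map_add, hq, add_sub_cancel]⟩

end pairs

section quotient

variable (hI : G.Inv I)

include W in
theorem mk_mem_range [Module.FaithfullyFlat A (B ⧸ I)] {x : B} (hx : x ∈ inv₀ G) :
    ∃ a, algebraMap A (B ⧸ I) a = Ideal.Quotient.mk I x := by
  have h0 : Ideal.Quotient.mk I x ⊗ₜ[A] (1 : B ⧸ I) = 1 ⊗ₜ[A] Ideal.Quotient.mk I x := by
    refine W.bij.1 ?_
    rw [← map_one (Ideal.Quotient.mk I), W.ψ_tmul, W.ψ_tmul, map_one G.s, map_one G.t, mul_one, one_mul]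
    exact congrArg _ hx
  obtain ⟨q, hq⟩ : ∃ q, q = (LinearMap.range (Algebra.linearMap A (B ⧸ I))).mkQ := ⟨_, rfl⟩
  have h1 : q (Ideal.Quotient.mk I x) = 0 := by
    refine Module.FaithfullyFlat.tensorProduct_mk_injective (A := A) (B := B ⧸ I) _ ?_
    have := congrArg (q.lTensor (B ⧸ I)) h0.symm
    rw [LinearMap.lTensor_tmul, LinearMap.lTensor_tmul] at this
    rw [map_zero, TensorProduct.mk_apply, this, show q 1 = 0 by
      rw [hq, Submodule.mkQ_apply, Submodule.Quotient.mk_eq_zero]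
      exact ⟨1, (algebraMap A (B ⧸ I)).map_one⟩, tmul_zero]
  rw [hq, Submodule.mkQ_apply, Submodule.Quotient.mk_eq_zero] at h1
  exact h1

set_option maxHeartbeats 1000000 in
include W hI in
/-- The quotient of a relation which is a kernel pair modulo a square zero ideal. -/
theorem square_zero [Algebra.Etale A (B ⧸ I)] [Module.FaithfullyFlat A (B ⧸ I)]
    (hsq : ∀ x ∈ I, ∀ y ∈ I, x * y = 0) :
    Algebra.Etale (inv₀ G) B ∧ Module.FaithfullyFlat (inv₀ G) B ∧
      ∃ χ : B ⊗[inv₀ G] B →+* C, (∀ b u, χ (b ⊗ₜ[inv₀ G] u) = G.t b * G.s u) ∧ Function.Bijective χ := by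
  classical
  have htor : Module.IsTorsionBySet B I (I : Set B) := fun x a => Subtype.ext (hsq _ a.2 _ x.2)
  letI : Module (B ⧸ I) I := htor.module
  haveI : IsScalarTower B (B ⧸ I) I := htor.isScalarTower
  letI : Module A I := Module.compHom I (algebraMap A (B ⧸ I))
  haveI : IsScalarTower A (B ⧸ I) I := IsScalarTower.of_algebraMap_smul fun _ _ => rfl
  let ι : I →ₗ[B] B := Submodule.subtype I
  have hι : Function.Injective ι := Subtype.coe_injective
  have hr : ∀ x, x ∈ I ↔ ∃ l, ι l = x := fun x => ⟨fun h => ⟨⟨x, h⟩, rfl⟩, fun ⟨l, hl⟩ => hl ▸ l.2⟩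
  obtain ⟨D, hd, hd₂⟩ := W.exists_coaction ι hI hι hr
  have hfix : ∀ m : I, m ∈ D.fixed ↔ (m : B) ∈ inv₀ G := fun m => by
    rw [D.mem_fixed, ← (W.Φ_injective ι hI hι).eq_iff, hd, ← map_one (Ideal.Quotient.mk I), Φ_tmul, map_one G.t,
      mul_one, mem_inv₀]
    rfl
  let π : inv₀ G → A := fun x => (W.mk_mem_range x.2).choose
  have hπ : ∀ x : inv₀ G, algebraMap A (B ⧸ I) (π x) = Ideal.Quotient.mk I x := fun x =>
    (W.mk_mem_range x.2).choose_spec
  have hinjA : Function.Injective (algebraMap A (B ⧸ I)) := FaithfulSMul.algebraMap_injective A (B ⧸ I)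
  let πh : inv₀ G →+* A :=
  { toFun := π
    map_one' := hinjA (by rw [hπ, map_one, OneMemClass.coe_one, map_one])
    map_mul' := fun x y => hinjA (by rw [hπ, map_mul, hπ, hπ, Subring.coe_mul, map_mul])
    map_zero' := hinjA (by rw [hπ, map_zero, ZeroMemClass.coe_zero, map_zero])
    map_add' := fun x y => hinjA (by rw [hπ, map_add, hπ, hπ, Subring.coe_add, map_add]) }
  have hlift : ∀ a : A, ∃ x : inv₀ G, Ideal.Quotient.mk I (x : B) = algebraMap A (B ⧸ I) a := fun a => by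
    obtain ⟨b, hb⟩ := Ideal.Quotient.mk_surjective (algebraMap A (B ⧸ I) a)
    obtain ⟨δ, hδ⟩ := W.exists_Φ_eq ι hI (fun x hx => (hr x).1 hx) (W.t_sub_s_mem hb)
    obtain ⟨l, hl⟩ := D.exists_of_cocycle δ (W.Φ₂_injective ι hI hι (by
      rw [map_add, hd₂, Φ₂_one_tmul, Φ₂_ins, hδ]
      simp only [map_sub]
      rw [G.comp_t, G.comp_s, tmul_sub, sub_tmul]
      rw [show (1 : Via G.t) ⊗ₜ[B] Via.mk G.s (G.s b) = Via.mk G.t (G.t b) ⊗ₜ[B] 1 by
        rw [show Via.mk G.t (G.t b) = b • (1 : Via G.t) from (mul_one (G.t b)).symm, TensorProduct.smul_tmul]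
        exact congrArg _ (mul_one (G.s b)).symm]
      abel))
    refine ⟨⟨b + ι l, mem_inv₀.2 ?_⟩, ?_⟩
    · have h := congrArg (W.Φ ι hI) hl
      rw [map_add, hd, hδ, ← map_one (Ideal.Quotient.mk I), Φ_tmul, map_one G.t, mul_one] at h
      rw [map_add, map_add, ← h]
      ring
    · show Ideal.Quotient.mk I (b + ι l) = _
      rw [map_add, hb, Ideal.Quotient.eq_zero_iff_mem.2 ((hr _).2 ⟨l, rfl⟩), add_zero]
  have hπsurj : Function.Surjective πh := fun a => by
    obtain ⟨x, hx⟩ := hlift a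
    exact ⟨x, hinjA ((hπ x).trans hx)⟩
  have hker : ∀ x : inv₀ G, x ∈ RingHom.ker πh ↔ (x : B) ∈ I := fun x => by
    rw [RingHom.mem_ker, ← hinjA.eq_iff, show πh x = π x from rfl, hπ, map_zero, Ideal.Quotient.eq_zero_iff_mem]
  have hgen : ∀ l : I, ∃ y : (B ⧸ I) ⊗[A] D.fixed, act (A := A) I (D.fixed.subtype.lTensor (B ⧸ I) y) = l :=
    fun l => D.bijective_act_fixed.2 l
  letI : Algebra (inv₀ G) A := πh.toAlgebra
  haveI : IsScalarTower (inv₀ G) A (B ⧸ I) := IsScalarTower.of_algebraMap_eq fun x => (hπ x).symm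
  have hJI : RingHom.ker (algebraMap B (B ⧸ I)) =
      (RingHom.ker (algebraMap (inv₀ G) A)).map (algebraMap (inv₀ G) B) := by
    rw [Ideal.Quotient.algebraMap_eq, Ideal.mk_ker]
    refine le_antisymm (fun x hx => ?_) (Ideal.map_le_iff_le_comap.2 fun y hy => (hker y).1 hy)
    obtain ⟨y, hy⟩ := hgen ⟨x, hx⟩
    rw [← show ι (act (A := A) I (D.fixed.subtype.lTensor (B ⧸ I) y)) = x from congrArg ι hy]
    clear hy
    induction y using TensorProduct.induction_on with
    | zero => simp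
    | add u v hu hv => rw [map_add, map_add, map_add]; exact Ideal.add_mem _ hu hv
    | tmul b m =>
      obtain ⟨b, rfl⟩ := Ideal.Quotient.mk_surjective b
      rw [LinearMap.lTensor_tmul, act_tmul, mk_smul, map_smul, smul_eq_mul]
      exact Ideal.mul_mem_left _ _ (Ideal.mem_map_of_mem (algebraMap (inv₀ G) B)
        ((hker ⟨_, (hfix m.1).1 m.2⟩).2 m.1.2))
  have hsq' : RingHom.ker (algebraMap (inv₀ G) A) ^ 2 = ⊥ := by
    rw [pow_two, eq_bot_iff, Ideal.mul_le]
    intro x hx y hy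
    exact Subtype.ext (hsq _ ((hker x).1 hx) _ ((hker y).1 hy))
  have hinj : Function.Injective ((RingHom.ker (algebraMap (inv₀ G) A)).subtype.baseChange B) := by
    rw [injective_iff_map_eq_zero]
    obtain ⟨K, hK⟩ : ∃ K : Ideal (inv₀ G), K = RingHom.ker (algebraMap (inv₀ G) A) := ⟨_, rfl⟩
    rw [← hK]
    have hKI : ∀ k : K, ((k : inv₀ G) : B) ∈ I := fun k => (hker _).1 (hK.le k.2)
    let km : D.fixed → K := fun m =>
      ⟨⟨_, (hfix m.1).1 m.2⟩, hK.symm.le ((hker _).2 m.1.2)⟩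
    have hkm : ∀ k : K, ∃ m : D.fixed, km m = k := fun k =>
      ⟨⟨⟨_, hKI k⟩, (hfix _).2 (k : inv₀ G).2⟩, rfl⟩
    have hIK : ∀ (i : B), i ∈ I → ∀ k : K, i ⊗ₜ[inv₀ G] k = 0 := by
      intro i hi
      obtain ⟨y, hy⟩ := hgen ⟨i, hi⟩
      rw [← show ι (act (A := A) I (D.fixed.subtype.lTensor (B ⧸ I) y)) = i from congrArg ι hy]
      clear hy
      induction y using TensorProduct.induction_on with
      | zero => simp
      | add u v hu hv => intro k; rw [map_add, map_add, map_add, add_tmul, hu, hv, add_zero]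
      | tmul b m =>
        intro k
        obtain ⟨b, rfl⟩ := Ideal.Quotient.mk_surjective b
        rw [LinearMap.lTensor_tmul, act_tmul, mk_smul, map_smul, smul_eq_mul, mul_comm,
          show ι (D.fixed.subtype m) * b = (km m : inv₀ G) • b from rfl, TensorProduct.smul_tmul,
          show (km m : inv₀ G) • k = 0 from Subtype.ext (Subtype.ext (hsq _ (hKI (km m)) _ (hKI k))), tmul_zero]
    let E : (B ⧸ I) ⊗[A] D.fixed →+ B ⊗[inv₀ G] K :=
      TensorProduct.liftAddHom
        (AddMonoidHom.mk' (fun b : B ⧸ I => AddMonoidHom.mk' (fun m : D.fixed => Quotient.out b ⊗ₜ[inv₀ G] km m)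
            fun m n => by rw [← tmul_add]; rfl)
          fun b b' => AddMonoidHom.ext fun m => by
            show _ = _ ⊗ₜ[inv₀ G] km m + _ ⊗ₜ[inv₀ G] km m
            rw [← add_tmul, ← sub_eq_zero, AddMonoidHom.mk'_apply, ← sub_tmul]
            refine hIK _ (Ideal.Quotient.eq.1 ?_) _
            rw [map_add]
            simp only [Ideal.Quotient.mk_out])
        fun a b m => by
          obtain ⟨x, hx⟩ := hlift a
          show Quotient.out (a • b) ⊗ₜ[inv₀ G] km m = Quotient.out b ⊗ₜ[inv₀ G] km (a • m)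
          rw [show km (a • m) = x • km m from Subtype.ext (Subtype.ext (by
            show ι (a • (m : I)) = (x : B) * ι (m : I)
            rw [← algebraMap_smul (B ⧸ I) a (m : I), ← hx, mk_smul, map_smul, smul_eq_mul])),
            ← TensorProduct.smul_tmul, ← sub_eq_zero, ← sub_tmul]
          refine hIK _ (Ideal.Quotient.eq.1 ?_) _
          rw [Ideal.Quotient.mk_out, show x • Quotient.out b = (x : B) * Quotient.out b from rfl, map_mul, hx,
            Ideal.Quotient.mk_out, Algebra.smul_def]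
    let μ : B ⊗[inv₀ G] K →+ B := ((TensorProduct.rid (inv₀ G) B).toLinearMap ∘ₗ K.subtype.lTensor B).toAddMonoidHom
    intro z hz
    have hμ : μ z = 0 := by
      show TensorProduct.rid (inv₀ G) B (K.subtype.lTensor B z) = 0
      rw [show K.subtype.lTensor B z = K.subtype.baseChange B z from rfl, hz, map_zero]
    have hE : ∀ z, ∃ y, ι (act (A := A) I (D.fixed.subtype.lTensor (B ⧸ I) y)) = μ z ∧ E y = z := fun z => by
      induction z using TensorProduct.induction_on with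
      | zero => exact ⟨0, by simp⟩
      | add u v hu hv =>
        obtain ⟨y, h1, h2⟩ := hu
        obtain ⟨y', h1', h2'⟩ := hv
        exact ⟨y + y', by simp only [map_add, h1, h1'], by rw [map_add, h2, h2']⟩
      | tmul b k =>
        obtain ⟨m, rfl⟩ := hkm k
        refine ⟨Ideal.Quotient.mk I b ⊗ₜ[A] m, ?_, ?_⟩
        · rw [LinearMap.lTensor_tmul, act_tmul, mk_smul, map_smul, smul_eq_mul]
          exact mul_comm _ _
        · refine (TensorProduct.liftAddHom_tmul _ _ _ _).trans ?_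
          show Quotient.out (Ideal.Quotient.mk I b) ⊗ₜ[inv₀ G] km m = _
          rw [← sub_eq_zero, ← sub_tmul]
          exact hIK _ (Ideal.Quotient.eq.1 (Ideal.Quotient.mk_out _)) _
    obtain ⟨y, hy1, rfl⟩ := hE z
    have : y = 0 := D.bijective_act_fixed.1 (hι (by
      rw [Function.comp_apply, Function.comp_apply, map_zero, map_zero, map_zero]; exact hy1.trans hμ))
    rw [this, map_zero]
  have het : Algebra.Etale (inv₀ G) B :=
    H02CA.EtaleLift.etale (A := A) (B := B ⧸ I) hπsurj hsq' Ideal.Quotient.mk_surjective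
      (by
        rw [Ideal.Quotient.algebraMap_eq, Ideal.mk_ker, pow_two, eq_bot_iff, Ideal.mul_le]
        exact fun x hx y hy => hsq x hx y hy) hJI hinj
  refine ⟨het, ?_, ?_⟩
  · refine Module.FaithfullyFlat.of_comap_surjective fun p => ?_
    have hp : RingHom.ker (algebraMap (inv₀ G) A) ≤ p.asIdeal := fun x hx =>
      p.isPrime.mem_of_pow_mem 2 ((show x ^ 2 = 0 from Ideal.mem_bot.1 (hsq' ▸ Ideal.pow_mem_pow hx 2)) ▸
        p.asIdeal.zero_mem)
    obtain ⟨q, hq⟩ := (_root_.range_comap_of_surjective A (algebraMap (inv₀ G) A) hπsurj).symm.le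
      (show p ∈ PrimeSpectrum.zeroLocus (RingHom.ker (algebraMap (inv₀ G) A) : Set (inv₀ G)) from hp)
    obtain ⟨r, rfl⟩ := PrimeSpectrum.comap_surjective_of_faithfullyFlat (B := B ⧸ I) q
    refine ⟨PrimeSpectrum.comap (algebraMap B (B ⧸ I)) r, ?_⟩
    rw [← hq, ← PrimeSpectrum.comap_comp_apply, ← PrimeSpectrum.comap_comp_apply,
      ← IsScalarTower.algebraMap_eq, ← IsScalarTower.algebraMap_eq]
  · refine W.exists_χ ι hI hι hr hsq hlift fun i hi => ?_
    rw [show I = RingHom.ker (algebraMap B (B ⧸ I)) by rw [Ideal.Quotient.algebraMap_eq, Ideal.mk_ker], hJI] at hi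
    exact Ideal.map_mono (fun x hx => (hker x).1 hx) hi

end quotient

end Restr

end Groth.Agent.H13AlgSp.ThickAff
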