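import Groth.Agent.H13AlgSp.ThickAff.SpecTensor
import Groth.Agent.H13AlgSp.ThickAff.SquareZero
import Groth.Agent.H13AlgSp.KernelPairGrpd
import Groth.Agent.H12AlgSp.SchImage
import Groth.Agent.H13Cartier.Space
import Groth.Agent.H12AlgSp.MinimalNonscheme

/-!
The relation of rings of an affine chart with affine kernel pair.
-/

universe u

open CategoryTheory CategoryTheory.Limits AlgebraicGeometry TensorProduct Opposite
open AlgSp Groth.Agent.H12AlgSp Groth.Agent.H13AlgSp Groth.Agent.H13Cartier

set_option backward.isDefEq.respectTransparency false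
set_option backward.isDefEq.respectTransparency.types false

namespace Groth.Agent.H13AlgSp.ThickAff

theorem appTop_eq {X Y Y' Z : Scheme.{u}} {a : X ⟶ Y} {b : Y ⟶ Z} {a' : X ⟶ Y'} {b' : Y' ⟶ Z}
    (h : a ≫ b = a' ≫ b') (z : Γ(Z, ⊤)) :
    a.appTop.hom (b.appTop.hom z) = a'.appTop.hom (b'.appTop.hom z) :=
  congr($(h).appTop.hom z)

variable {S : Scheme.{u}} {Z : Sp S} {U R : Over S} [IsAffine U.left] [IsAffine R.left]
  {p : (yon S).obj U ⟶ Z} {s t : R ⟶ U} (sq : IsPullback ((yon S).map t) ((yon S).map s) p p)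

include sq in
theorem exists_div : ∃ γ : Γ(R.left, ⊤) →+* Via s.left.appTop.hom ⊗[Γ(U.left, ⊤)] Via s.left.appTop.hom,
    (∀ b, γ (s.left.appTop.hom b) = Via.mk s.left.appTop.hom (t.left.appTop.hom b) ⊗ₜ[Γ(U.left, ⊤)] 1) ∧
    ∀ b, γ (t.left.appTop.hom b) = 1 ⊗ₜ[Γ(U.left, ⊤)] Via.mk s.left.appTop.hom (t.left.appTop.hom b) := by
  let P : Over S := Over.mk (pullback.fst s.left s.left ≫ R.hom)
  let a : P ⟶ R := Over.homMk (pullback.fst s.left s.left)
  let b : P ⟶ R := Over.homMk (pullback.snd s.left s.left) (by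
    show pullback.snd s.left s.left ≫ R.hom = pullback.fst s.left s.left ≫ R.hom
    rw [← Over.w s, ← pullback.condition_assoc])
  have hab : a ≫ s = b ≫ s := Over.OverMorphism.ext pullback.condition
  let d := pairLift sq (b ≫ t) (a ≫ t) (by
    rw [Functor.map_comp, Category.assoc, sq.w, ← Category.assoc, ← Functor.map_comp, ← hab,
      Functor.map_comp, Category.assoc, ← sq.w, ← Category.assoc, ← Functor.map_comp])
  obtain ⟨γ, hγ⟩ := exists_hom_of_pair (IsPullback.of_hasPullback s.left s.left) d.left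
  refine ⟨γ, fun x => ?_, fun x => ?_⟩
  · refine hγ _ (t.left.appTop.hom x) 1 ?_
    rw [map_one, mul_one]
    exact appTop_eq (congrArg CommaMorphism.left (pairLift_s sq (b ≫ t) (a ≫ t) _)) x
  · refine hγ _ 1 (t.left.appTop.hom x) ?_
    rw [map_one, one_mul]
    exact appTop_eq (congrArg CommaMorphism.left (pairLift_t sq (b ≫ t) (a ≫ t) _)) x

include sq in
theorem exists_comp : ∃ γ : Γ(R.left, ⊤) →+* Via t.left.appTop.hom ⊗[Γ(U.left, ⊤)] Via s.left.appTop.hom,
    (∀ b, γ (s.left.appTop.hom b) = Via.mk t.left.appTop.hom (s.left.appTop.hom b) ⊗ₜ[Γ(U.left, ⊤)] 1) ∧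
    ∀ b, γ (t.left.appTop.hom b) = 1 ⊗ₜ[Γ(U.left, ⊤)] Via.mk s.left.appTop.hom (t.left.appTop.hom b) := by
  let P : Over S := Over.mk (pullback.fst t.left s.left ≫ R.hom)
  let a : P ⟶ R := Over.homMk (pullback.fst t.left s.left)
  let b : P ⟶ R := Over.homMk (pullback.snd t.left s.left) (by
    show pullback.snd t.left s.left ≫ R.hom = pullback.fst t.left s.left ≫ R.hom
    conv_lhs => rw [← Over.w s, ← pullback.condition_assoc, Over.w t])
  have hab : a ≫ t = b ≫ s := Over.OverMorphism.ext pullback.condition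
  let d := pairLift sq (b ≫ t) (a ≫ s) (by
    rw [Functor.map_comp, Category.assoc, sq.w, ← Category.assoc, ← Functor.map_comp, ← hab,
      Functor.map_comp, Category.assoc, sq.w, ← Category.assoc, ← Functor.map_comp])
  obtain ⟨γ, hγ⟩ := exists_hom_of_pair (IsPullback.of_hasPullback t.left s.left) d.left
  refine ⟨γ, fun x => ?_, fun x => ?_⟩
  · refine hγ _ (s.left.appTop.hom x) 1 ?_
    rw [map_one, mul_one]
    exact appTop_eq (congrArg CommaMorphism.left (pairLift_s sq (b ≫ t) (a ≫ s) _)) x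
  · refine hγ _ 1 (t.left.appTop.hom x) ?_
    rw [map_one, one_mul]
    exact appTop_eq (congrArg CommaMorphism.left (pairLift_t sq (b ≫ t) (a ≫ s) _)) x

/-- The relation of rings of a chart. -/
noncomputable def ringRel [Flat s.left] [Flat t.left] : RingRel Γ(U.left, ⊤) Γ(R.left, ⊤) where
  s := s.left.appTop.hom
  t := t.left.appTop.hom
  e := (idArrow sq).left.appTop.hom
  e_s b := congr($(idArrow_s sq).appTop.hom b)
  e_t b := congr($(idArrow_t sq).appTop.hom b)
  div := (exists_div sq).choose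
  div_s := (exists_div sq).choose_spec.1
  div_t := (exists_div sq).choose_spec.2
  comp := (exists_comp sq).choose
  comp_s := (exists_comp sq).choose_spec.1
  comp_t := (exists_comp sq).choose_spec.2
  flat_s := s.left.flat_appTop
  flat_t := t.left.flat_appTop

theorem invIdeal_of_inv [Flat s.left] [Flat t.left] {L : Ideal Γ(U.left, ⊤)} (hL : (ringRel sq).Inv L) :
    InvIdeal p (Scheme.IdealSheafData.ofIdealTop L) := fun A d d' h => by
  have hst : (Scheme.IdealSheafData.ofIdealTop L).comap t.left = (Scheme.IdealSheafData.ofIdealTop L).comap s.left :=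
    le_antisymm (topIdeal_le_iff.1 (by rw [topIdeal_comap, topIdeal_comap, topIdeal_ofIdealTop]; exact hL.ge))
      (topIdeal_le_iff.1 (by rw [topIdeal_comap, topIdeal_comap, topIdeal_ofIdealTop]; exact hL.le))
  rw [← pairLift_t sq d d' h, Over.comp_left, Scheme.IdealSheafData.comap_comp, hst,
    ← Scheme.IdealSheafData.comap_comp, ← Over.comp_left, pairLift_s]

/-- The pairs in a closed subscheme which is pulled back from a subspace cut out inside the relation. -/
theorem surjective_and_ker {J : U.left.IdealSheafData} {R₀ : Over S} {r : R₀ ⟶ R} {b : R₀ ⟶ subOver U J}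
    (h : IsPullback r.left b.left s.left J.subschemeι) :
    Function.Surjective r.left.appTop.hom ∧ RingHom.ker r.left.appTop.hom = (topIdeal J).map s.left.appTop.hom := by
  have : IsAffine (subOver U J).left := isAffine_of_isAffineHom J.subschemeι
  obtain ⟨φ, hφb, hφ⟩ := exists_tensor_of_isPullback h
  have hsurj : Function.Surjective J.subschemeι.appTop.hom :=
    J.subschemeι.app_surjective ⊤ (isAffineOpen_top _)
  refine ⟨fun z => ?_, le_antisymm (fun z hz => ?_) ?_⟩
  · obtain ⟨y, rfl⟩ := hφb.2 z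
    induction y using TensorProduct.induction_on with
    | zero => exact ⟨0, by rw [map_zero, map_zero]⟩
    | add x y hx hy =>
      obtain ⟨x', hx⟩ := hx
      obtain ⟨y', hy⟩ := hy
      exact ⟨x' + y', by rw [map_add, map_add, hx, hy]⟩
    | tmul c x =>
      obtain ⟨u, hu⟩ := hsurj x
      refine ⟨s.left.appTop.hom u * (show Γ(R.left, ⊤) from c), ?_⟩
      refine Eq.trans ?_ (hφ c x).symm
      rw [map_mul, appTop_eq h.w u, mul_comm]
      exact congrArg (r.left.appTop.hom c * ·) (congrArg b.left.appTop.hom hu)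
  · let e : (Γ(U.left, ⊤) ⧸ topIdeal J) →ₗ[Γ(U.left, ⊤)] Via J.subschemeι.appTop.hom :=
      Submodule.liftQ (topIdeal J) (Algebra.linearMap Γ(U.left, ⊤) (Via J.subschemeι.appTop.hom))
        fun x hx => LinearMap.mem_ker.2 ((ker_subschemeι_appTop J).ge hx)
    have he : Function.Bijective e :=
      ⟨LinearMap.ker_eq_bot.1 (Submodule.ker_liftQ_eq_bot _ _ _ fun x hx =>
        (ker_subschemeι_appTop J).le hx), fun x => by
        obtain ⟨u, hu⟩ := hsurj x
        exact ⟨Submodule.Quotient.mk u, hu⟩⟩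
    have h1 : Via.mk s.left.appTop.hom z ⊗ₜ[Γ(U.left, ⊤)] (1 : Via J.subschemeι.appTop.hom) = 0 :=
      hφb.1 ((hφ z 1).trans (by rw [map_one, mul_one, RingHom.mem_ker.1 hz, map_zero]))
    have h2 : Via.mk s.left.appTop.hom z ⊗ₜ[Γ(U.left, ⊤)] Ideal.Quotient.mk (topIdeal J) 1 = 0 := by
      apply ((LinearEquiv.ofBijective e he).lTensor (Via s.left.appTop.hom)).injective
      rw [map_zero, ← h1]
      show (LinearMap.lTensor _ e) _ = _
      rw [LinearMap.lTensor_tmul]
      exact congrArg _ (map_one J.subschemeι.appTop.hom)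
    refine Ideal.Quotient.eq_zero_iff_mem.1 ((Algebra.TensorProduct.quotIdealMapEquivTensorQuot
      (Via s.left.appTop.hom) (topIdeal J)).injective ?_)
    rw [map_zero]
    exact h2
  · rw [Ideal.map_le_iff_le_comap]
    intro x hx
    rw [Ideal.mem_comap, RingHom.mem_ker, appTop_eq h.w x]
    exact (congrArg _ (RingHom.mem_ker.1 ((ker_subschemeι_appTop J).ge hx))).trans (map_zero b.left.appTop.hom)

variable {T : Over S} {i : (yon S).obj T ⟶ Z} [Mono i] {J : U.left.IdealSheafData} {q : subOver U J ⟶ T}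
  (sqJ : IsPullback ((yon S).map q) ((yon S).map (subIncl U J)) i p)

omit [IsAffine U.left] [IsAffine R.left] [Mono i] in
/-- The pairs inside a subspace map to the relation as a base change of the source. -/
theorem isPullback_pair {R₀ : Over S} {a b : R₀ ⟶ subOver U J} (sq₀ : IsPullback a b q q) {r : R₀ ⟶ R}
    (ht : r ≫ t = a ≫ subIncl U J) (hs : r ≫ s = b ≫ subIncl U J) (sq : IsPullback ((yon S).map t) ((yon S).map s) p p)
    (sqJ : IsPullback ((yon S).map q) ((yon S).map (subIncl U J)) i p) :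
    IsPullback r.left b.left s.left J.subschemeι := by
  have : Mono (subIncl U J).left := inferInstanceAs (Mono J.subschemeι)
  have : Mono (subIncl U J) := (Over.forget S).mono_of_mono_map ‹_›
  have key : IsPullback r b s (subIncl U J) := by
    refine IsPullback.of_isLimit' ⟨hs⟩ (PullbackCone.IsLimit.mk _
      (fun c => sq₀.lift ((yon S).preimage (sqJ.lift ((yon S).map (c.snd ≫ q)) ((yon S).map (c.fst ≫ t)) ?_)) c.snd ?_)
      (fun c => ?_) (fun c => ?_) fun c m h1 h2 => ?_)
    · rw [Functor.map_comp, Category.assoc, sqJ.w, Functor.map_comp, Category.assoc, sq.w, ← Category.assoc,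
        ← Category.assoc, ← Functor.map_comp, ← Functor.map_comp, c.condition]
    · refine (yon S).map_injective ?_
      rw [Functor.map_comp, Functor.map_preimage, sqJ.lift_fst]
    · refine pair_ext sq ?_ ?_
      · rw [Category.assoc, ht, sq₀.lift_fst_assoc]
        refine (yon S).map_injective ?_
        rw [Functor.map_comp, Functor.map_preimage, sqJ.lift_snd]
      · rw [Category.assoc, hs, sq₀.lift_snd_assoc, c.condition]
    · exact sq₀.lift_snd _ _ _
    · refine sq₀.hom_ext ?_ ?_
      · rw [sq₀.lift_fst, ← cancel_mono (subIncl U J), Category.assoc, ← ht, reassoc_of% h1]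
        refine (yon S).map_injective ?_
        refine Eq.trans ?_ ((yon S).map_comp _ _).symm
        rw [Functor.map_preimage, sqJ.lift_snd]
      · rw [sq₀.lift_snd, h2]
  exact key.map (Over.forget S)

variable [IsAffine T.left]

include sqJ in
/-- The relation of rings restricted to a subspace which is an affine scheme. -/
theorem exists_restr [Flat s.left] [Flat t.left] (hp : RepWith @Etale p) (hps : RepWith @Surjective p) :
    (ringRel sq).Inv (topIdeal J) ∧
    ∃ (A : Type u) (_ : CommRing A) (_ : Algebra A (Γ(U.left, ⊤) ⧸ topIdeal J)),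
      Algebra.Etale A (Γ(U.left, ⊤) ⧸ topIdeal J) ∧
      Module.FaithfullyFlat A (Γ(U.left, ⊤) ⧸ topIdeal J) ∧
      Nonempty (Restr (ringRel sq) (topIdeal J) A) := by
  have : IsAffine (subOver U J).left := isAffine_of_isAffineHom J.subschemeι
  have : Etale q.left := (repWith_yon_map_iff @Etale q).1 (repWith_of_isPullback sqJ.flip hp)
  have : Surjective q.left := (repWith_yon_map_iff @Surjective q).1 (repWith_of_isPullback sqJ.flip hps)
  let a := pullback.fst q q
  let b := pullback.snd q q
  have sq₀ : IsPullback a b q q := IsPullback.of_hasPullback q q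
  have sq₀' : IsPullback a.left b.left q.left q.left := sq₀.map (Over.forget S)
  let r := pairLift sq (a ≫ subIncl U J) (b ≫ subIncl U J) (by
    rw [Functor.map_comp, Category.assoc, ← sqJ.w, Functor.map_comp, Category.assoc, ← sqJ.w, ← Category.assoc,
      ← Category.assoc, ← Functor.map_comp, ← Functor.map_comp, sq₀.w])
  have hrt : r ≫ t = a ≫ subIncl U J := pairLift_t sq _ _ _
  have hrs : r ≫ s = b ≫ subIncl U J := pairLift_s sq _ _ _
  obtain ⟨hrsurj, hker⟩ := surjective_and_ker (isPullback_pair sq₀ hrt hrs sq sqJ)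
  obtain ⟨-, hker'⟩ := surjective_and_ker (isPullback_pair sq₀.flip hrs hrt sq.flip sqJ)
  refine ⟨hker.symm.trans hker', ?_⟩
  let j := J.subschemeι.appTop.hom
  have hjker : RingHom.ker j = topIdeal J := ker_subschemeι_appTop J
  let e₀ : Γ(U.left, ⊤) ⧸ topIdeal J →+* Γ((subOver U J).left, ⊤) :=
    Ideal.Quotient.lift (topIdeal J) j fun x hx => hjker.ge hx
  have he₀ : Function.Bijective e₀ :=
    ⟨(injective_iff_map_eq_zero _).2 fun x hx => by
      obtain ⟨x, rfl⟩ := Ideal.Quotient.mk_surjective x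
      exact Ideal.Quotient.eq_zero_iff_mem.2 (hjker.le hx),
    fun x => by
      obtain ⟨u, hu⟩ := J.subschemeι.app_surjective ⊤ (isAffineOpen_top _) x
      exact ⟨Ideal.Quotient.mk _ u, hu⟩⟩
  let e := RingEquiv.ofBijective e₀ he₀
  letI alg : Algebra Γ(T.left, ⊤) (Γ(U.left, ⊤) ⧸ topIdeal J) := (e.symm.toRingHom.comp q.left.appTop.hom).toAlgebra
  let ea : (Γ(U.left, ⊤) ⧸ topIdeal J) ≃ₐ[Γ(T.left, ⊤)] Via q.left.appTop.hom :=
    AlgEquiv.ofRingEquiv (f := (e : (Γ(U.left, ⊤) ⧸ topIdeal J) ≃+* Via q.left.appTop.hom))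
      fun x => e.apply_symm_apply _
  have : Algebra.Etale Γ(T.left, ⊤) (Via q.left.appTop.hom) :=
    (HasRingHomProperty.appTop (P := @Etale) q.left inferInstance : q.left.appTop.hom.Etale)
  have : Module.FaithfullyFlat Γ(T.left, ⊤) (Via q.left.appTop.hom) :=
    (Flat.flat_and_surjective_iff_faithfullyFlat_of_isAffine (f := q.left)).1 ⟨inferInstance, inferInstance⟩
  refine ⟨_, inferInstance, alg, Algebra.Etale.of_equiv ea.symm,
    Module.FaithfullyFlat.of_linearEquiv _ _ ea.toLinearEquiv, ?_⟩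
  obtain ⟨φ, hφb, hφ⟩ := exists_tensor_of_isPullback sq₀'
  let ρ : Γ(R.left, ⊤) ⧸ (topIdeal J).map s.left.appTop.hom →+* Γ((pullback q q).left, ⊤) :=
    Ideal.Quotient.lift _ r.left.appTop.hom fun x hx => hker.ge hx
  have hρb : Function.Bijective ρ :=
    ⟨(injective_iff_map_eq_zero _).2 fun x hx => by
      obtain ⟨x, rfl⟩ := Ideal.Quotient.mk_surjective x
      exact Ideal.Quotient.eq_zero_iff_mem.2 (hker.le hx),
    fun x => by
      obtain ⟨z, hz⟩ := hrsurj x
      exact ⟨Ideal.Quotient.mk _ z, hz⟩⟩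
  let ee := Algebra.TensorProduct.congr ea ea
  refine ⟨⟨(RingEquiv.ofBijective ρ hρb).symm.toRingHom.comp (φ.comp ee.toRingEquiv.toRingHom), fun x y => ?_, ?_⟩⟩
  · refine (RingEquiv.ofBijective ρ hρb).injective (((RingEquiv.ofBijective ρ hρb).apply_symm_apply _).trans ?_)
    refine (hφ (j x) (j y)).trans ?_
    show _ = r.left.appTop.hom (t.left.appTop.hom x * s.left.appTop.hom y)
    rw [map_mul]
    exact congrArg₂ (· * ·) (appTop_eq (congrArg CommaMorphism.left hrt) x).symm
      (appTop_eq (congrArg CommaMorphism.left hrs) y).symm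
  · exact (RingEquiv.ofBijective ρ hρb).symm.bijective.comp (hφb.comp ee.bijective)

end Groth.Agent.H13AlgSp.ThickAff
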