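import Mathlib

/-!
Contents of elements along flat algebras which are finite projective over a closed subset.
-/

universe u

open TensorProduct

set_option backward.isDefEq.respectTransparency false
set_option backward.isDefEq.respectTransparency.types false

namespace Groth.Agent.H13AlgSp.ThickAff

variable {R P : Type u} [CommRing R] [CommRing P] [Algebra R P]

/-- A dual basis of an algebra modulo an ideal of the base. -/
structure DualBasis (J : Ideal R) (P : Type u) [CommRing P] [Algebra R P] where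
  n : ℕ
  e : Fin n → P
  φ : Fin n → P →ₗ[R] R ⧸ J
  spec : ∀ (z : P) (c : Fin n → R), (∀ i, Ideal.Quotient.mk J (c i) = φ i z) →
    z - ∑ i, c i • e i ∈ J.map (algebraMap R P)

/-- A finite projective quotient gives a dual basis. -/
theorem exists_dualBasis (J : Ideal R) [Module.Finite (R ⧸ J) (P ⧸ J.map (algebraMap R P))]
    [Module.Projective (R ⧸ J) (P ⧸ J.map (algebraMap R P))] : Nonempty (DualBasis J P) := by
  obtain ⟨n, π, hπ⟩ := Module.Finite.exists_fin' (R ⧸ J) (P ⧸ J.map (algebraMap R P))
  obtain ⟨σ, hσ⟩ := Module.projective_lifting_property π LinearMap.id hπ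
  choose e he using fun i : Fin n => Ideal.Quotient.mk_surjective (π (Pi.single i 1))
  let toQ : P →ₗ[R] P ⧸ J.map (algebraMap R P) := (Ideal.Quotient.mkₐ R _).toLinearMap
  refine ⟨⟨n, e, fun i => ((LinearMap.proj i).comp σ).restrictScalars R ∘ₗ toQ, fun z c hc => ?_⟩⟩
  rw [← Ideal.Quotient.eq_zero_iff_mem, map_sub, map_sum, sub_eq_zero]
  have h1 : π (σ (Ideal.Quotient.mk _ z)) = Ideal.Quotient.mk (J.map (algebraMap R P)) z :=
    LinearMap.congr_fun hσ _
  conv_lhs => rw [← h1]
  conv_lhs => rw [pi_eq_sum_univ' (σ (Ideal.Quotient.mk _ z)), map_sum]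
  refine Finset.sum_congr rfl fun i _ => ?_
  rw [LinearMap.map_smul, ← he i]
  change ((LinearMap.proj i).comp σ) (Ideal.Quotient.mk _ z) • _ = _
  rw [show ((LinearMap.proj i).comp σ) (Ideal.Quotient.mk _ z) = Ideal.Quotient.mk J (c i) from (hc i).symm,
    Algebra.smul_def, Algebra.smul_def, map_mul]
  rfl

/-- The annihilator of an ideal as an ideal. -/
abbrev annIdeal (J : Ideal R) : Ideal R := Submodule.torsionBySet R R (J : Set R)

/-- Scalar multiplication on elements killed by the ideal. -/
noncomputable def annSmul {J : Ideal R} (q : R ⧸ J) (x : R) : R := Quotient.out q * x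

theorem annSmul_mk {J : Ideal R} {x : R} (hx : ∀ j ∈ J, j * x = 0) (c : R) :
    annSmul (Ideal.Quotient.mk J c) x = c * x := by
  have : Quotient.out (Ideal.Quotient.mk J c) - c ∈ J :=
    Ideal.Quotient.eq.1 (Quotient.out_eq (Ideal.Quotient.mk J c))
  exact sub_eq_zero.1 ((sub_mul _ _ _).symm.trans (hx _ this))

namespace DualBasis

variable {J : Ideal R} (D : DualBasis J P)

/-- Coefficients presenting an element killed by the ideal. -/
structure Coeff (z : P) where
  k : Fin D.n → R
  ann : ∀ i, ∀ j ∈ J, j * k i = 0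
  eq : z = ∑ i, k i • D.e i
  fixed : ∀ j, k j = ∑ i, annSmul (D.φ j (D.e i)) (k i)

/-- The coefficient maps on elements killed by the ideal. -/
noncomputable def ψ (i : Fin D.n) :
    (Submodule.torsionBySet R R (J : Set R) : Submodule R R) ⊗[R] P →ₗ[R] R :=
  TensorProduct.lift (LinearMap.mk₂ R (fun x z => annSmul (D.φ i z) (x : R))
    (fun x y z => by simp only [Submodule.coe_add, annSmul, mul_add])
    (fun c x z => by
      simp only [Submodule.coe_smul, smul_eq_mul, annSmul]
      ring)
    (fun x z z' => by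
      obtain ⟨a, ha⟩ := Ideal.Quotient.mk_surjective (D.φ i z)
      obtain ⟨b, hb⟩ := Ideal.Quotient.mk_surjective (D.φ i z')
      have hx : ∀ j ∈ J, j * (x : R) = 0 := fun j hj => (Submodule.mem_torsionBySet_iff _ _).1 x.2 ⟨j, hj⟩
      rw [map_add, ← ha, ← hb, ← map_add, annSmul_mk hx, annSmul_mk hx, annSmul_mk hx, add_mul])
    (fun c x z => by
      obtain ⟨a, ha⟩ := Ideal.Quotient.mk_surjective (D.φ i z)
      have hx : ∀ j ∈ J, j * (x : R) = 0 := fun j hj => (Submodule.mem_torsionBySet_iff _ _).1 x.2 ⟨j, hj⟩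
      rw [map_smul, ← ha, Algebra.smul_def, Ideal.Quotient.algebraMap_eq, ← map_mul, annSmul_mk hx, annSmul_mk hx,
        smul_eq_mul, mul_assoc]))

theorem ψ_tmul (i : Fin D.n) (x : (Submodule.torsionBySet R R (J : Set R) : Submodule R R)) (z : P) :
    D.ψ i (x ⊗ₜ[R] z) = annSmul (D.φ i z) (x : R) := rfl

theorem ψ_ann (i : Fin D.n) (x : (Submodule.torsionBySet R R (J : Set R) : Submodule R R) ⊗[R] P) :
    ∀ j ∈ J, j * D.ψ i x = 0 := by
  intro j hj
  induction x using TensorProduct.induction_on with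
  | zero => rw [map_zero, mul_zero]
  | add x y hx hy => rw [map_add, mul_add, hx, hy, add_zero]
  | tmul x z =>
    rw [ψ_tmul, annSmul, mul_left_comm,
      show j * (x : R) = 0 from (Submodule.mem_torsionBySet_iff _ _).1 x.2 ⟨j, hj⟩, mul_zero]

/-- The multiplication map. -/
noncomputable def μ : (Submodule.torsionBySet R R (J : Set R) : Submodule R R) ⊗[R] P →ₗ[R] P :=
  (TensorProduct.lid R P).toLinearMap ∘ₗ (Submodule.subtype _).rTensor P

theorem μ_eq (x : (Submodule.torsionBySet R R (J : Set R) : Submodule R R) ⊗[R] P) :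
    μ x = ∑ i, D.ψ i x • D.e i := by
  induction x using TensorProduct.induction_on with
  | zero => simp
  | add x y hx hy => simp only [map_add, add_smul, Finset.sum_add_distrib, hx, hy]
  | tmul x z =>
    choose c hc using fun i => Ideal.Quotient.mk_surjective (D.φ i z)
    have hx : ∀ j ∈ J, j * (x : R) = 0 := fun j hj => (Submodule.mem_torsionBySet_iff _ _).1 x.2 ⟨j, hj⟩
    have h := D.spec z c hc
    have h0 : (x : R) • (z - ∑ i, c i • D.e i) = 0 := by
      have : J.map (algebraMap R P) ≤ (⊥ : Ideal P).colon ({algebraMap R P (x : R)} : Set P) := by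
        rw [Ideal.map_le_iff_le_comap]
        intro j hj
        rw [Ideal.mem_comap, Submodule.mem_colon_singleton, Ideal.mem_bot, smul_eq_mul, ← map_mul, hx j hj, map_zero]
      have := this h
      rw [Submodule.mem_colon_singleton, Ideal.mem_bot, smul_eq_mul, mul_comm] at this
      rwa [Algebra.smul_def]
    rw [show μ (x ⊗ₜ[R] z) = (x : R) • z by simp [μ]]
    rw [smul_sub, sub_eq_zero, Finset.smul_sum] at h0
    rw [h0]
    refine Finset.sum_congr rfl fun i _ => ?_
    rw [ψ_tmul, ← hc i, annSmul_mk hx, smul_smul, mul_comm]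

variable [Module.Flat R P]

theorem μ_injective : Function.Injective
    (μ : (Submodule.torsionBySet R R (J : Set R) : Submodule R R) ⊗[R] P →ₗ[R] P) :=
  (TensorProduct.lid R P).injective.comp
    (Module.Flat.rTensor_preserves_injective_linearMap _ Subtype.coe_injective)

theorem ψ_of_eq {z : P} (k : Fin D.n → R) (hk : ∀ i, ∀ j ∈ J, j * k i = 0) (hz : z = ∑ i, k i • D.e i)
    (x : (Submodule.torsionBySet R R (J : Set R) : Submodule R R) ⊗[R] P) (hx : μ x = z) (j : Fin D.n) :
    D.ψ j x = ∑ i, annSmul (D.φ j (D.e i)) (k i) := by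
  have hx' : x = ∑ i, (⟨k i, (Submodule.mem_torsionBySet_iff _ _).2 fun a => hk i a.1 a.2⟩ :
      (Submodule.torsionBySet R R (J : Set R) : Submodule R R)) ⊗ₜ[R] D.e i :=
    μ_injective (hx.trans (hz.trans (by simp [μ])))
  rw [hx', map_sum]
  rfl

theorem coeff_of_mem {z : P} (hz : z ∈ (annIdeal J).map (algebraMap R P)) :
    Nonempty (D.Coeff z) := by
  obtain ⟨x, hx⟩ : ∃ x : (Submodule.torsionBySet R R (J : Set R) : Submodule R R) ⊗[R] P, μ x = z := by
    refine Submodule.span_induction ?_ ⟨0, map_zero _⟩ ?_ ?_ hz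
    · rintro _ ⟨r, hr, rfl⟩
      exact ⟨(⟨r, hr⟩ : (Submodule.torsionBySet R R (J : Set R) : Submodule R R)) ⊗ₜ[R] 1, by
        simp [μ, Algebra.algebraMap_eq_smul_one]⟩
    · rintro _ _ _ _ ⟨x, rfl⟩ ⟨y, rfl⟩; exact ⟨x + y, map_add _ _ _⟩
    · rintro a _ hmem ⟨x, rfl⟩
      clear hmem
      induction x using TensorProduct.induction_on with
      | zero => exact ⟨0, by simp⟩
      | add x y hx hy =>
        obtain ⟨x', hx'⟩ := hx
        obtain ⟨y', hy'⟩ := hy
        exact ⟨x' + y', by rw [map_add, map_add, smul_add, hx', hy']⟩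
      | tmul x y => exact ⟨x ⊗ₜ[R] (a * y), by simp [μ]⟩
  exact ⟨⟨fun i => D.ψ i x, fun i => D.ψ_ann i x, hx.symm.trans (D.μ_eq x),
    fun j => D.ψ_of_eq _ (fun i => D.ψ_ann i x) (D.μ_eq x) x rfl j⟩⟩

theorem mem_map_of_ann {z : P} (hJ : J.FG) (hz : ∀ j ∈ J, algebraMap R P j * z = 0) :
    z ∈ (annIdeal J).map (algebraMap R P) := by
  obtain ⟨m, g, hg⟩ := (Submodule.fg_iff_exists_fin_generating_family).1 hJ
  let θ : R →ₗ[R] (Fin m → R) := LinearMap.pi fun i => LinearMap.mulRight R (g i)
  have hker : LinearMap.ker θ = Submodule.torsionBySet R R (J : Set R) := by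
    ext x
    rw [LinearMap.mem_ker, Submodule.mem_torsionBySet_iff]
    constructor
    · intro h a
      have : J ≤ (⊥ : Ideal R).colon ({x} : Set R) := by
        rw [← hg, Submodule.span_le]
        rintro _ ⟨i, rfl⟩
        rw [SetLike.mem_coe, Submodule.mem_colon_singleton, Ideal.mem_bot, smul_eq_mul, mul_comm]
        exact congrFun h i
      have h' := this a.2
      rwa [Submodule.mem_colon_singleton, Ideal.mem_bot] at h'
    · intro h
      funext i
      have := h ⟨g i, hg ▸ Submodule.subset_span ⟨i, rfl⟩⟩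
      rw [smul_eq_mul] at this
      simpa [θ, mul_comm] using this
  have hex := Module.Flat.lTensor_exact P (LinearMap.exact_subtype_ker_map θ)
  obtain ⟨y, hy⟩ := (hex (z ⊗ₜ[R] (1 : R))).1 (by
    apply (TensorProduct.piScalarRight R R P (Fin m)).injective
    funext i
    have := hz (g i) (hg ▸ Submodule.subset_span ⟨i, rfl⟩)
    simpa [θ, Algebra.smul_def, mul_comm] using this)
  have hgen : ∀ y : P ⊗[R] (LinearMap.ker θ), TensorProduct.rid R P ((LinearMap.ker θ).subtype.lTensor P y) ∈
      (annIdeal J).map (algebraMap R P) := by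
    intro y
    induction y using TensorProduct.induction_on with
    | zero => simp
    | add x y hx hy => rw [map_add, map_add]; exact Ideal.add_mem _ hx hy
    | tmul a x =>
      rw [LinearMap.lTensor_tmul, TensorProduct.rid_tmul, Algebra.smul_def]
      exact Ideal.mul_mem_right _ _ (Ideal.mem_map_of_mem _ (hker.le x.2))
  have := hgen y
  rwa [hy, TensorProduct.rid_tmul, one_smul] at this

variable {D} in
omit [Module.Flat R P] in
theorem Coeff.ann_mem {z : P} (c : D.Coeff z) : z ∈ (annIdeal J).map (algebraMap R P) := by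
  rw [c.eq]
  refine Ideal.sum_mem _ fun i _ => ?_
  rw [Algebra.smul_def]
  exact Ideal.mul_mem_right _ _ (Ideal.mem_map_of_mem _ ((Submodule.mem_torsionBySet_iff _ _).2 fun a =>
    c.ann i a.1 a.2))

variable {D} in
/-- The coefficients are in every ideal whose extension contains the element. -/
theorem Coeff.le_of_mem {z : P} (c : D.Coeff z) {L : Ideal R} (hz : z ∈ L.map (algebraMap R P))
    (j : Fin D.n) : c.k j ∈ L := by
  let N : Submodule R R := Submodule.torsionBySet R R (J : Set R)
  let θ : N →ₗ[R] R ⧸ L := (Ideal.Quotient.mkₐ R L).toLinearMap ∘ₗ N.subtype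
  let x : N ⊗[R] P := ∑ i, (⟨c.k i, (Submodule.mem_torsionBySet_iff _ _).2 fun a => c.ann i a.1 a.2⟩ : N) ⊗ₜ[R] D.e i
  have hx : μ x = z := by rw [c.eq]; simp [x, μ]
  have hθ : θ.rTensor P x = 0 := by
    apply (TensorProduct.quotTensorEquivQuotSMul P L).injective
    rw [map_zero]
    have e : TensorProduct.quotTensorEquivQuotSMul P L (θ.rTensor P x) = Submodule.Quotient.mk z := by
      simp only [x, map_sum, LinearMap.rTensor_tmul]
      refine Eq.trans ?_ (congrArg _ c.eq).symm
      rw [← Submodule.mkQ_apply, map_sum]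
      exact Finset.sum_congr rfl fun i _ => TensorProduct.quotTensorEquivQuotSMul_mk_tmul ..
    rw [e, Submodule.Quotient.mk_eq_zero, Ideal.smul_top_eq_map]
    exact hz
  obtain ⟨y, hy⟩ := (Module.Flat.rTensor_exact P (LinearMap.exact_subtype_ker_map θ) x).1 hθ
  rw [c.fixed j, ← D.ψ_of_eq c.k c.ann c.eq x hx j, ← hy]
  clear hy
  induction y using TensorProduct.induction_on with
  | zero => simp
  | add u v hu hv => rw [map_add, map_add]; exact L.add_mem hu hv
  | tmul u a =>
    rw [LinearMap.rTensor_tmul, ψ_tmul]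
    exact L.mul_mem_left _ (Ideal.Quotient.eq_zero_iff_mem.1 u.2)

/-- The base change of a dual basis. -/
noncomputable def baseChange (R' : Type u) [CommRing R'] [Algebra R R'] :
    DualBasis (J.map (algebraMap R R')) (R' ⊗[R] P) where
  n := D.n
  e i := 1 ⊗ₜ[R] D.e i
  φ i := LinearMap.liftBaseChange R' ((Ideal.quotientMapₐ (J.map (algebraMap R R')) (Algebra.ofId R R')
    Ideal.le_comap_map).toLinearMap ∘ₗ D.φ i)
  spec z c hc := by
    suffices h : ∀ z : R' ⊗[R] P, ∃ d : Fin D.n → R',
        (∀ i, Ideal.Quotient.mk (J.map (algebraMap R R')) (d i) = LinearMap.liftBaseChange R'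
          ((Ideal.quotientMapₐ (J.map (algebraMap R R')) (Algebra.ofId R R') Ideal.le_comap_map).toLinearMap ∘ₗ D.φ i) z) ∧
        z - ∑ i, d i • ((1 : R') ⊗ₜ[R] D.e i) ∈ (J.map (algebraMap R R')).map (algebraMap R' (R' ⊗[R] P)) by
      obtain ⟨d, hd, hz⟩ := h z
      have hdc : ∑ i, d i • ((1 : R') ⊗ₜ[R] D.e i) - ∑ i, c i • ((1 : R') ⊗ₜ[R] D.e i) ∈
          (J.map (algebraMap R R')).map (algebraMap R' (R' ⊗[R] P)) := by
        rw [← Finset.sum_sub_distrib]
        refine Ideal.sum_mem _ fun i _ => ?_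
        rw [← sub_smul, Algebra.smul_def]
        exact Ideal.mul_mem_right _ _ (Ideal.mem_map_of_mem _ (Ideal.Quotient.eq.1 ((hd i).trans (hc i).symm)))
      have := Ideal.add_mem _ hz hdc
      rwa [sub_add_sub_cancel] at this
    intro z
    induction z using TensorProduct.induction_on with
    | zero => exact ⟨0, fun i => by simp, by simp⟩
    | add x y hx hy =>
      obtain ⟨d, hd, hx⟩ := hx
      obtain ⟨d', hd', hy⟩ := hy
      refine ⟨d + d', fun i => by simp [hd, hd'], ?_⟩
      have := Ideal.add_mem _ hx hy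
      simpa [add_smul, Finset.sum_add_distrib, sub_add_sub_comm] using this
    | tmul a y =>
      choose d hd using fun i => Ideal.Quotient.mk_surjective (D.φ i y)
      refine ⟨fun i => a * algebraMap R R' (d i), fun i => ?_, ?_⟩
      · rw [map_mul, LinearMap.liftBaseChange_tmul]
        simp [← hd i, Algebra.smul_def]
      · have h := D.spec y d hd
        let ι : P →ₐ[R] R' ⊗[R] P := Algebra.TensorProduct.includeRight
        have e : a ⊗ₜ[R] y - ∑ i, (a * algebraMap R R' (d i)) • ((1 : R') ⊗ₜ[R] D.e i) =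
            algebraMap R' (R' ⊗[R] P) a * ι (y - ∑ i, d i • D.e i) := by
          rw [map_sub, map_sum, mul_sub, Finset.mul_sum]
          congr 1
          · simp [ι]
          · refine Finset.sum_congr rfl fun i _ => ?_
            rw [map_smul, mul_smul, algebraMap_smul, Algebra.smul_def a]
            rfl
        rw [e]
        refine Ideal.mul_mem_left _ _ ?_
        have hmap : (J.map (algebraMap R P)).map ι.toRingHom ≤
            (J.map (algebraMap R R')).map (algebraMap R' (R' ⊗[R] P)) := by
          rw [Ideal.map_map, Ideal.map_map, ← IsScalarTower.algebraMap_eq,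
            show ι.toRingHom.comp (algebraMap R P) = algebraMap R (R' ⊗[R] P) from RingHom.ext ι.commutes]
        exact hmap (Ideal.mem_map_of_mem ι.toRingHom h)

variable {D} in
/-- The coefficients after base change. -/
theorem Coeff.le_of_mem_baseChange {z : P} (c : D.Coeff z) (R' : Type u) [CommRing R'] [Algebra R R']
    {L : Ideal R'} (hz : (1 : R') ⊗ₜ[R] z ∈ L.map (algebraMap R' (R' ⊗[R] P))) (j : Fin D.n) :
    algebraMap R R' (c.k j) ∈ L := by
  let D' := D.baseChange R'
  have hann : ∀ i, ∀ a ∈ J.map (algebraMap R R'), a * algebraMap R R' (c.k i) = 0 := fun i a ha => by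
    refine Submodule.span_induction ?_ (zero_mul _) ?_ ?_ ha
    · rintro _ ⟨r, hr, rfl⟩; rw [← map_mul, c.ann i r hr, map_zero]
    · rintro x y _ _ hx hy; rw [add_mul, hx, hy, add_zero]
    · rintro b x _ hx; rw [smul_eq_mul, mul_assoc, hx, mul_zero]
  let c' : D'.Coeff ((1 : R') ⊗ₜ[R] z) :=
  { k := fun i => algebraMap R R' (c.k i)
    ann := hann
    eq := by
      conv_lhs => rw [c.eq, TensorProduct.tmul_sum]
      refine Finset.sum_congr rfl fun i _ => ?_
      rw [TensorProduct.tmul_smul, algebraMap_smul]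
      rfl
    fixed := fun j => by
      conv_lhs => rw [c.fixed j, map_sum]
      refine Finset.sum_congr rfl fun i _ => ?_
      obtain ⟨d, hd⟩ := Ideal.Quotient.mk_surjective (D.φ j (D.e i))
      have h1 : D'.φ j (D'.e i) = Ideal.Quotient.mk _ (algebraMap R R' d) := by
        change LinearMap.liftBaseChange R' _ ((1 : R') ⊗ₜ[R] D.e i) = _
        rw [LinearMap.liftBaseChange_tmul, one_smul, LinearMap.comp_apply, ← hd]
        rfl
      rw [h1, annSmul_mk (hann i), ← hd, annSmul_mk (c.ann i), map_mul] }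
  exact c'.le_of_mem hz j

end DualBasis

end Groth.Agent.H13AlgSp.ThickAff
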