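import Mathlib

/-!
Extensions of intersections, colons and saturations of ideals along flat ring maps.
-/

universe u

open TensorProduct

set_option backward.isDefEq.respectTransparency false

namespace Groth.Agent.H13AlgSp.ThickAff

section

variable {R P : Type u} [CommRing R] [CommRing P] [Algebra R P]

theorem mem_map_ker [Module.Flat R P] {M : Type u} [AddCommGroup M] [Module R M] (θ : R →ₗ[R] M) (z : P)
    (hz : θ.lTensor P (z ⊗ₜ[R] (1 : R)) = 0) :
    z ∈ Ideal.map (algebraMap R P) (LinearMap.ker θ) := by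
  obtain ⟨y, hy⟩ := ((Module.Flat.lTensor_exact P (LinearMap.exact_subtype_ker_map θ)) _).1 hz
  have key : ∀ y : P ⊗[R] (LinearMap.ker θ), TensorProduct.rid R P ((LinearMap.ker θ).subtype.lTensor P y) ∈
      Ideal.map (algebraMap R P) (LinearMap.ker θ) := by
    intro y
    induction y using TensorProduct.induction_on with
    | zero => simp
    | add x y hx hy => rw [map_add, map_add]; exact Ideal.add_mem _ hx hy
    | tmul a x =>
      rw [LinearMap.lTensor_tmul, TensorProduct.rid_tmul, Algebra.smul_def]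
      exact Ideal.mul_mem_right _ _ (Ideal.mem_map_of_mem _ x.2)
  have := key y
  rwa [hy, TensorProduct.rid_tmul, one_smul] at this

theorem tmul_mk_eq_zero {K : Ideal R} {z : P} (h : z ∈ K.map (algebraMap R P)) :
    z ⊗ₜ[R] (Ideal.Quotient.mk K 1) = 0 := by
  apply (TensorProduct.tensorQuotEquivQuotSMul P K).injective
  rw [map_zero, TensorProduct.tensorQuotEquivQuotSMul, LinearEquiv.trans_apply, TensorProduct.comm_tmul,
    TensorProduct.quotTensorEquivQuotSMul_mk_tmul, one_smul, Submodule.Quotient.mk_eq_zero, Ideal.smul_top_eq_map]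
  exact h

end

variable {R P : Type u} [CommRing R] [CommRing P]

theorem map_inf_of_flat {φ : R →+* P} (hφ : φ.Flat) (I K : Ideal R) :
    (I ⊓ K).map φ = I.map φ ⊓ K.map φ := by
  algebraize [φ]
  refine le_antisymm (Ideal.map_inf_le _) fun z hz => ?_
  let θ : R →ₗ[R] (R ⧸ I) × (R ⧸ K) :=
    (Ideal.Quotient.mkₐ R I).toLinearMap.prod (Ideal.Quotient.mkₐ R K).toLinearMap
  have hker : (LinearMap.ker θ : Ideal R) = I ⊓ K := by
    ext x
    simp [θ, Prod.ext_iff, Ideal.Quotient.eq_zero_iff_mem]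
  rw [← hker]
  refine mem_map_ker θ z ((TensorProduct.prodRight R R P (R ⧸ I) (R ⧸ K)).injective ?_)
  rw [map_zero, LinearMap.lTensor_tmul, TensorProduct.prodRight_tmul]
  exact Prod.ext (tmul_mk_eq_zero hz.1) (tmul_mk_eq_zero hz.2)

/-- The saturation of an ideal at an element. -/
def sat (K : Ideal R) (a : R) : Ideal R where
  carrier := {g | ∃ n : ℕ, a ^ n * g ∈ K}
  zero_mem' := ⟨0, by simp⟩
  add_mem' {x y} := fun ⟨n, hn⟩ ⟨m, hm⟩ => ⟨n + m, by
    rw [mul_add, pow_add]
    exact K.add_mem (by rw [mul_comm (a ^ n), mul_assoc]; exact K.mul_mem_left _ hn)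
      (by rw [mul_assoc]; exact K.mul_mem_left _ hm)⟩
  smul_mem' c x := fun ⟨n, hn⟩ => ⟨n, by rw [smul_eq_mul, mul_left_comm]; exact K.mul_mem_left _ hn⟩

theorem mem_sat {K : Ideal R} {a g : R} : g ∈ sat K a ↔ ∃ n : ℕ, a ^ n * g ∈ K := Iff.rfl

theorem map_sat_of_flat {φ : R →+* P} (hφ : φ.Flat) (K : Ideal R) (a : R) :
    (sat K a).map φ = sat (K.map φ) (φ a) := by
  algebraize [φ]
  refine le_antisymm ?_ fun z hz => ?_
  · rw [Ideal.map_le_iff_le_comap]
    rintro g ⟨n, hn⟩
    exact ⟨n, by rw [← map_pow, ← map_mul]; exact Ideal.mem_map_of_mem _ hn⟩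
  · obtain ⟨n, hn⟩ := hz
    let θ : R →ₗ[R] R ⧸ K := (Ideal.Quotient.mkₐ R K).toLinearMap ∘ₗ LinearMap.mulLeft R (a ^ n)
    have hle : (LinearMap.ker θ : Ideal R) ≤ sat K a := fun x hx => ⟨n, Ideal.Quotient.eq_zero_iff_mem.1 hx⟩
    refine Ideal.map_mono hle (mem_map_ker θ z ?_)
    rw [LinearMap.lTensor_tmul]
    have e : θ 1 = (a ^ n) • Ideal.Quotient.mk K 1 := by
      show Ideal.Quotient.mk K (a ^ n * 1) = _
      rw [Algebra.smul_def, Ideal.Quotient.algebraMap_eq, map_mul]
    rw [e, ← TensorProduct.smul_tmul]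
    refine tmul_mk_eq_zero ?_
    rw [Algebra.smul_def, map_pow]
    exact hn

theorem sat_eq_of_nilpotent {K : Ideal R} {a b : R} (h : IsNilpotent (a - b)) : sat K a = sat K b := by
  have key : ∀ x y : R, IsNilpotent (x - y) → sat K x ≤ sat K y := by
    rintro x y ⟨m, hm⟩ g ⟨n, hn⟩
    obtain ⟨m', hm'⟩ : IsNilpotent (y - x) := by rw [← neg_sub]; exact IsNilpotent.neg ⟨m, hm⟩
    refine ⟨n + m', ?_⟩
    rw [show y = (y - x) + x from (sub_add_cancel y x).symm, add_pow, Finset.sum_mul]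
    refine K.sum_mem fun i hi => ?_
    by_cases hi' : m' ≤ i
    · rw [pow_eq_zero_of_le hi' hm']; simp
    · have : n ≤ n + m' - i := by omega
      obtain ⟨d, hd⟩ := pow_dvd_pow x this
      rw [hd]
      rw [show (y - x) ^ i * (x ^ n * d) * ((n + m').choose i : R) * g =
        (y - x) ^ i * d * ((n + m').choose i : R) * (x ^ n * g) by ring]
      exact K.mul_mem_left _ hn
  exact le_antisymm (key a b h) (key b a (by rw [← neg_sub]; exact h.neg))

end Groth.Agent.H13AlgSp.ThickAff
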