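import Groth.Agent.H13AlgSp.ThickAff.Content

/-!
Finitely generated invariant ideals of a groupoid of rings.
-/

universe u

open TensorProduct

set_option backward.isDefEq.respectTransparency false
set_option backward.isDefEq.respectTransparency.types false

namespace Groth.Agent.H13AlgSp.ThickAff

variable {B C : Type u} [CommRing B] [CommRing C]

theorem DualBasis.Coeff.mem_map_span {R P : Type u} [CommRing R] [CommRing P] [Algebra R P] {J : Ideal R}
    {D : DualBasis J P} {z : P} (c : D.Coeff z) : z ∈ (Ideal.span (Set.range c.k)).map (algebraMap R P) := by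
  have h : ∑ i, c.k i • D.e i ∈ (Ideal.span (Set.range c.k)).map (algebraMap R P) := by
    refine Ideal.sum_mem _ fun i _ => ?_
    rw [Algebra.smul_def]
    exact Ideal.mul_mem_right _ _ (Ideal.mem_map_of_mem _ (Ideal.subset_span ⟨i, rfl⟩))
  exact (congrArg (· ∈ (Ideal.span (Set.range c.k)).map (algebraMap R P)) c.eq).mpr h

/-- The algebra given by a ring map, on a copy of the target. -/
@[nolint unusedArguments]
def Via (_ : B →+* C) : Type u := C

instance (s : B →+* C) : CommRing (Via s) := inferInstanceAs (CommRing C)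
instance (s : B →+* C) : Algebra B (Via s) := RingHom.toAlgebra (S := Via s) s

/-- The identification with the target. -/
def Via.mk (s : B →+* C) : C →+* Via s := RingHom.id C

/-- The two projections of a relation, its diagonal, the division and composition of arrows. -/
structure RingRel (B C : Type u) [CommRing B] [CommRing C] where
  s : B →+* C
  t : B →+* C
  e : C →+* B
  e_s : ∀ b, e (s b) = b
  e_t : ∀ b, e (t b) = b
  div : C →+* Via s ⊗[B] Via s
  div_s : ∀ b, div (s b) = Via.mk s (t b) ⊗ₜ[B] 1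
  div_t : ∀ b, div (t b) = 1 ⊗ₜ[B] Via.mk s (t b)
  comp : C →+* Via t ⊗[B] Via s
  comp_s : ∀ b, comp (s b) = Via.mk t (s b) ⊗ₜ[B] 1
  comp_t : ∀ b, comp (t b) = 1 ⊗ₜ[B] Via.mk s (t b)
  flat_s : s.Flat
  flat_t : t.Flat

namespace RingRel

variable (G : RingRel B C)

/-- An ideal with the same extension along both projections. -/
def Inv (L : Ideal B) : Prop := L.map G.s = L.map G.t

instance : Module.Flat B (Via G.s) := G.flat_s

theorem map_half {R' : Type u} [CommRing R'] [Algebra B R'] {J : Ideal B} {D : DualBasis J (Via G.s)}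
    {f : B} (c : D.Coeff (Via.mk G.s (G.t f))) (q : C →+* R' ⊗[B] Via G.s) (g : B →+* R')
    (hs : ∀ b, q (G.s b) = g b ⊗ₜ[B] 1) (ht : ∀ b, q (G.t b) = 1 ⊗ₜ[B] Via.mk G.s (G.t b)) :
    (Ideal.span (Set.range c.k)).map (algebraMap B R') ≤ (Ideal.span (Set.range c.k)).map g := by
  rw [Ideal.map_span, Ideal.span_le]
  rintro _ ⟨_, ⟨j, rfl⟩, rfl⟩
  refine c.le_of_mem_baseChange R' ?_ j
  rw [← ht f]
  have hz : G.t f ∈ (Ideal.span (Set.range c.k)).map G.s := c.mem_map_span
  have h := Ideal.mem_map_of_mem q hz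
  rw [Ideal.map_map] at h
  rw [Ideal.map_map]
  rwa [show (algebraMap R' (R' ⊗[B] Via G.s)).comp g = q.comp G.s from RingHom.ext fun b => (hs b).symm]

/-- An element killed near a closed set over which the source map is finite generates a finite invariant ideal. -/
theorem exists_fg_inv {I : Ideal B} (hI : G.Inv I) {J : Ideal B} (hJ : J.FG) (D : DualBasis J (Via G.s))
    {f : B} (hf : f ∈ I) (hJf : ∀ j ∈ J, G.s j * G.t f = 0) :
    ∃ K : Ideal B, K.FG ∧ K ≤ I ∧ G.Inv K ∧ f ∈ K := by
  obtain ⟨c⟩ := D.coeff_of_mem (DualBasis.mem_map_of_ann (P := Via G.s) (z := Via.mk G.s (G.t f)) hJ hJf)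
  refine ⟨Ideal.span (Set.range c.k), Submodule.fg_span (Set.finite_range _), ?_, ?_, ?_⟩
  · rw [Ideal.span_le]
    rintro _ ⟨j, rfl⟩
    refine c.le_of_mem ?_ j
    show G.t f ∈ I.map G.s
    rw [hI]
    exact Ideal.mem_map_of_mem _ hf
  · exact le_antisymm (G.map_half (R' := Via G.s) c G.div ((Via.mk G.s).comp G.t) G.div_s G.div_t)
      (G.map_half (R' := Via G.t) c G.comp ((Via.mk G.t).comp G.s) G.comp_s G.comp_t)
  · have h : G.t f ∈ (Ideal.span (Set.range c.k)).map G.s := c.mem_map_span
    have h2 := Ideal.mem_map_of_mem G.e h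
    rw [Ideal.map_map, G.e_t, show G.e.comp G.s = RingHom.id B from RingHom.ext G.e_s, Ideal.map_id] at h2
    exact h2

end RingRel

end Groth.Agent.H13AlgSp.ThickAff
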