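import Groth.Agent.H13AlgSp.ThickAff.Chart
import Groth.Agent.H13AlgSp.FinLocFreeDescent
import Groth.Agent.H13AlgSp.Thick
import Groth.Agent.H12AlgSp.SepAbsolute
import Groth.Agent.H7Lim.Thickening
import Mathlib.AlgebraicGeometry.Sites.Fpqc

/-!
A thickening of an affine scheme in algebraic spaces is a scheme.
-/

universe u

open CategoryTheory CategoryTheory.Limits AlgebraicGeometry TensorProduct Opposite
open AlgSp Groth.Agent.H12AlgSp Groth.Agent.H13AlgSp Groth.Agent.H13Cartier

set_option backward.isDefEq.respectTransparency false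
set_option backward.isDefEq.respectTransparency.types false

namespace Groth.Agent.H13AlgSp.ThickAff

theorem isNilpotent_of_mem_topIdeal {X : Scheme.{u}} [IsAffine X] {J : X.IdealSheafData}
    (h : Surjective J.subschemeι) {x : Γ(X, ⊤)} (hx : x ∈ topIdeal J) : IsNilpotent x := by
  have : IsAffine J.subscheme := isAffine_of_isAffineHom J.subschemeι
  have h' : Surjective (Spec.map J.subschemeι.appTop) :=
    (MorphismProperty.arrow_mk_iso_iff @Surjective (arrowIsoSpecΓOfIsAffine J.subschemeι)).1 h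
  rw [← mem_nilradical, nilradical_eq_sInf, Ideal.mem_sInf]
  intro P (hP : P.IsPrime)
  obtain ⟨Q, hQ⟩ := h'.surj ⟨P, hP⟩
  have e : P = Q.asIdeal.comap J.subschemeι.appTop.hom := congrArg PrimeSpectrum.asIdeal hQ.symm
  rw [e, Ideal.mem_comap, RingHom.mem_ker.1 ((ker_subschemeι_appTop J).ge hx)]
  exact zero_mem _

theorem isAffine_of_thick {X Y : Scheme.{u}} (j : X ⟶ Y) [IsClosedImmersion j] [Surjective j] [IsAffine X] :
    IsAffine Y :=
  H7Lim.isAffine_of_surjective_closedImmersion (t := j) j.surjective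

variable {S : Scheme.{u}}

/-- A kernel pair of an etale surjection of affine schemes determines the quotient. -/
theorem exists_quotient {Z : Sp S} {U R : Over S} [IsAffine U.left] [IsAffine R.left]
    {p : (yon S).obj U ⟶ Z} {s t : R ⟶ U} (hp : RepWith @Etale p) (hps : RepWith @Surjective p)
    (sq : IsPullback ((yon S).map t) ((yon S).map s) p p) [Flat s.left] [Flat t.left]
    (het : Algebra.Etale (Restr.inv₀ (ringRel sq)) Γ(U.left, ⊤))
    (hff : Module.FaithfullyFlat (Restr.inv₀ (ringRel sq)) Γ(U.left, ⊤))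
    (χ : Γ(U.left, ⊤) ⊗[Restr.inv₀ (ringRel sq)] Γ(U.left, ⊤) →+* Γ(R.left, ⊤))
    (hχ : ∀ b u, χ (b ⊗ₜ[Restr.inv₀ (ringRel sq)] u) = t.left.appTop.hom b * s.left.appTop.hom u)
    (hχb : Function.Bijective χ) :
    ∃ M : Over S, IsAffine M.left ∧ Nonempty ((yon S).obj M ≅ Z) := by
  let A₀ := Restr.inv₀ (ringRel sq)
  let ι : CommRingCat.of A₀ ⟶ Γ(U.left, ⊤) := CommRingCat.ofHom A₀.subtype
  let π : U.left ⟶ Spec (CommRingCat.of A₀) := U.left.isoSpec.hom ≫ Spec.map ι
  have hp0 : IsPushout ι ι t.left.appTop s.left.appTop := by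
    refine (CommRingCat.isPushout_tensorProduct A₀ Γ(U.left, ⊤) Γ(U.left, ⊤)).of_iso (Iso.refl _) (Iso.refl _)
      (Iso.refl _) (RingEquiv.ofBijective χ hχb).toCommRingCatIso ?_ ?_ ?_ ?_
    · simp only [Iso.refl_hom, Category.comp_id, Category.id_comp]; rfl
    · simp only [Iso.refl_hom, Category.comp_id, Category.id_comp]; rfl
    · ext b
      show χ (b ⊗ₜ[A₀] 1) = t.left.appTop.hom b
      rw [hχ, map_one, mul_one]
    · ext b
      show χ ((1 : Γ(U.left, ⊤)) ⊗ₜ[A₀] b) = s.left.appTop.hom b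
      rw [hχ, map_one, one_mul]
  have sqπ : IsPullback t.left s.left π π := by
    refine (isPullback_SpecMap_of_isPushout _ _ _ _ hp0).of_iso R.left.isoSpec.symm U.left.isoSpec.symm
      U.left.isoSpec.symm (Iso.refl _) ?_ ?_ ?_ ?_
    · rw [Iso.symm_hom, Iso.symm_hom, Scheme.isoSpec_inv_naturality]
    · rw [Iso.symm_hom, Iso.symm_hom, Scheme.isoSpec_inv_naturality]
    · simp [π]
    · simp [π]
  have : Etale π := by
    have : Etale (Spec.map ι) := (HasRingHomProperty.Spec_iff (P := @Etale)).2 (RingHom.etale_algebraMap.2 het)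
    infer_instance
  have : Surjective π := by
    have h : RingHom.FaithfullyFlat ι.hom := RingHom.faithfullyFlat_algebraMap_iff.2 hff
    have := ((flat_and_surjective_SpecMap_iff ι).2 h).2
    infer_instance
  have hk : ∀ {W : Scheme.{u}} (g₁ g₂ : W ⟶ U.left), g₁ ≫ π = g₂ ≫ π → g₁ ≫ U.hom = g₂ ≫ U.hom := fun g₁ g₂ h => by
    obtain ⟨l, h₁, h₂⟩ := sqπ.exists_lift g₁ g₂ h
    rw [← h₁, ← h₂, Category.assoc, Category.assoc, Over.w t, Over.w s]
  let str : Spec (CommRingCat.of A₀) ⟶ S := EffectiveEpi.desc π U.hom fun g₁ g₂ => hk g₁ g₂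
  let M : Over S := Over.mk str
  let m : U ⟶ M := Over.homMk π (EffectiveEpi.fac π U.hom fun g₁ g₂ => hk g₁ g₂)
  have sqy := (IsPullback.of_map_of_faithful (Over.forget S) (sqπ : IsPullback t.left s.left m.left m.left) :
    IsPullback t s m m).map (yon S)
  have : Epi p := epi_of_etale_surjective hp hps
  have : Epi ((yon S).map m) :=
    epi_of_etale_surjective ((repWith_yon_map_iff @Etale m).2 (inferInstanceAs (Etale π)))
      ((repWith_yon_map_iff @Surjective m).2 (inferInstanceAs (Surjective π)))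
  have : IsRegularEpi ((yon S).map m) := IsRegularEpiCategory.regularEpiOfEpi _
  have : IsRegularEpi p := IsRegularEpiCategory.regularEpiOfEpi p
  exact ⟨M, inferInstanceAs (IsAffine (Spec (CommRingCat.of A₀))),
    ⟨(IsKernelPair.toCoequalizer' sqy).coconePointUniqueUpToIso (IsKernelPair.toCoequalizer' sq)⟩⟩

/-- A scheme receiving a thickening from an affine scheme is affine. -/
theorem isAffine_of_thickMor {Z : Sp S} (hZ : IsAlgSpace Z) {T W : Over S} [IsAffine T.left]
    {k : (yon S).obj T ⟶ Z} (hk : IsThickMor k) (e : (yon S).obj W ≅ Z) : IsAffine W.left := by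
  obtain ⟨j, hj⟩ := (yon S).map_surjective (k ≫ e.inv)
  have h : IsThickMor ((yon S).map j) := hj ▸ MorphismProperty.RespectsIso.postcomp (P := RepWith thick) _ _ hk
  have h' := (repWith_yon_map_iff thick j).1 h
  have := h'.1
  have := h'.2
  exact isAffine_of_thick j.left

/-- The thin part of a chart of a thickened affine scheme. -/
theorem exists_affine_pair {Z : Sp S} (hZ : IsAlgSpace Z) {T : Over S} [IsAffine T.left]
    {i : (yon S).obj T ⟶ Z} (hi : IsThickMor i) :
    ∃ (U R : Over S) (p : (yon S).obj U ⟶ Z) (s t : R ⟶ U), IsAffine U.left ∧ IsAffine R.left ∧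
      RepWith @Etale p ∧ RepWith @Surjective p ∧ IsPullback ((yon S).map t) ((yon S).map s) p p ∧
      IsQuasiCompactSp Z := by
  have hc : RepWith @IsClosedImmersion i := repWith_le (fun _ _ _ h => h.1) hi
  have hqc : IsQuasiCompactSp Z := isQuasiCompactSp_of_surjective hZ i
    (surjective_map_of_repWith (P := thick) (fun _ _ _ h => h.2) hi)
    (isQuasiCompactSp_yon_iff.2 inferInstance)
  have := compactSpace_points_of_isQuasiCompactSp hqc
  obtain ⟨U, p, hU, hp, hps⟩ := H12AlgSp.exists_affine_atlas hZ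
  obtain ⟨R, s, t', sq⟩ := hp.rep p
  obtain ⟨t, rfl⟩ := (yon S).map_surjective t'
  refine ⟨U, R, p, s, t, hU, ?_, hp, hps, sq, hqc⟩
  have := mono_of_closedImmersion hc
  obtain ⟨J, q', sqJ⟩ := exists_cutsOut hc p
  obtain ⟨q, rfl⟩ := (yon S).map_surjective q'
  have := ((repWith_yon_map_iff thick (subIncl U J)).1 (repWith_of_isPullback sqJ hi)).2
  have : Surjective J.subschemeι := this
  have : IsAffine (subOver U J).left := isAffine_of_isAffineHom J.subschemeι
  let a := pullback.fst q q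
  let b := pullback.snd q q
  have sq₀ : IsPullback a b q q := IsPullback.of_hasPullback q q
  let r := pairLift sq (a ≫ subIncl U J) (b ≫ subIncl U J) (by
    rw [Functor.map_comp, Category.assoc, ← sqJ.w, Functor.map_comp, Category.assoc, ← sqJ.w, ← Category.assoc,
      ← Category.assoc, ← Functor.map_comp, ← Functor.map_comp, sq₀.w])
  have h := isPullback_pair (r := r) sq₀ (pairLift_t sq _ _ _) (pairLift_s sq _ _ _) sq sqJ
  have : IsAffine (pullback q q).left :=
    IsAffine.of_isPullback (show IsPullback a.left b.left q.left q.left from sq₀.map (Over.forget S))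
  have : IsClosedImmersion r.left := MorphismProperty.of_isPullback h.flip inferInstance
  have : Surjective r.left := MorphismProperty.of_isPullback h.flip ‹Surjective J.subschemeι›
  exact isAffine_of_thick r.left

/-- The minimal case: all proper closed subspaces containing the thin part are schemes. -/
theorem isRepresentable_of_minimal {Z : Sp S} (hZ : IsAlgSpace Z) {T : Over S} [IsAffine T.left]
    {i : (yon S).obj T ⟶ Z} (hi : IsThickMor i)
    (hmin : ∀ (Z' : Sp S) (i' : Z' ⟶ Z), IsAlgSpace Z' → RepWith @IsClosedImmersion i' → ¬ IsIso i' →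
      (∃ k, k ≫ i' = i) → Z'.obj.IsRepresentable) : Z.obj.IsRepresentable := by
  obtain ⟨U, R, p, s, t, _, _, hp, hps, sq, -⟩ := exists_affine_pair hZ hi
  have hc : RepWith @IsClosedImmersion i := repWith_le (fun _ _ _ h => h.1) hi
  have := mono_of_closedImmersion hc
  obtain ⟨J, q', sqJ⟩ := exists_cutsOut hc p
  obtain ⟨q, rfl⟩ := (yon S).map_surjective q'
  have : Surjective J.subschemeι := ((repWith_yon_map_iff thick (subIncl U J)).1 (repWith_of_isPullback sqJ hi)).2
  by_cases hI : topIdeal J = ⊥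
  · have hJ : J = ⊥ := Scheme.IdealSheafData.ext_of_isAffine (hI.trans (by simp))
    have : IsIso J.subschemeι := by subst hJ; infer_instance
    have : IsIso (subIncl U J).left := this
    have : IsIso ((Over.forget S).map (subIncl U J)) := this
    have : IsIso (subIncl U J) := isIso_of_reflects_iso (subIncl U J) (Over.forget S)
    have : Epi p := epi_of_etale_surjective hp hps
    have : Epi i := epi_of_epi_fac (f := inv ((yon S).map (subIncl U J)) ≫ (yon S).map q) (h := p)
      (by rw [Category.assoc, sqJ.w, IsIso.inv_hom_id_assoc])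
    have : IsIso i := isIso_of_mono_of_epi i
    exact isRepresentable_iff_exists_iso.2 ⟨T, ⟨asIso i⟩⟩
  have : Etale s.left := hp.property _ _ _ sq
  have : Etale t.left := hp.property _ _ _ sq.flip
  obtain ⟨hinv, A, _, _, het, hff, ⟨W⟩⟩ := exists_restr sq sqJ hp hps
  have hfp : (ringRel sq).s.FinitePresentation :=
    (HasRingHomProperty.appTop (P := @LocallyOfFinitePresentation) s.left inferInstance)
  obtain ⟨L, hL, hLJ, hLinv, n, hn⟩ := W.exists_nilpotent_inv hfp hinv
    (fun x hx => isNilpotent_of_mem_topIdeal ‹Surjective J.subschemeι› hx) hI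
  classical
  have hex : ∃ n, L ^ n = ⊥ := ⟨n, hn⟩
  let m := Nat.find hex
  have hm : L ^ m = ⊥ := Nat.find_spec hex
  have hm2 : 2 ≤ m := by
    by_contra h
    refine hL (le_bot_iff.1 (hm ▸ ?_))
    exact (pow_one L).ge.trans (Ideal.pow_le_pow_right (by omega))
  obtain ⟨L', hL'⟩ : ∃ L', L' = L ^ (m - 1) := ⟨_, rfl⟩
  have hL'ne : L' ≠ ⊥ := hL' ▸ Nat.find_min hex (by omega)
  have hL'le : L' ≤ topIdeal J := hL' ▸ (Ideal.pow_le_self (by omega)).trans hLJ
  have hsq : ∀ x ∈ L', ∀ y ∈ L', x * y = 0 := fun x hx y hy => by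
    have h := Ideal.mul_mem_mul hx hy
    rw [hL', ← pow_add] at h
    exact (Submodule.mem_bot _).1 (hm ▸ Ideal.pow_le_pow_right (by omega) h)
  have hL'inv : (ringRel sq).Inv L' := by
    show Ideal.map _ L' = Ideal.map _ L'
    rw [hL', Ideal.map_pow, Ideal.map_pow, hLinv]
  obtain ⟨hZ', hcl, hcut⟩ := idealSub_props hZ hp hps (invIdeal_of_inv sq hL'inv)
  obtain ⟨k, hk⟩ := exists_lift_idealSub (p := p) (I := Scheme.IdealSheafData.ofIdealTop L') i
    (fun T' x A a d e => by
      obtain ⟨d', -, hd'⟩ := sqJ.exists_lift ((yon S).map a ≫ x) ((yon S).map d) (by rw [Category.assoc]; exact e)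
      obtain ⟨d', rfl⟩ := (yon S).map_surjective d'
      have hd : d' ≫ subIncl U J = d := (yon S).map_injective (by rw [Functor.map_comp, hd'])
      refine le_bot_iff.1 ((Scheme.IdealSheafData.comap_mono d.left (?_ : _ ≤ J)).trans (le_of_eq ?_) :
        (Scheme.IdealSheafData.ofIdealTop L').comap d.left ≤ ⊥)
      · exact topIdeal_le_iff.1 ((topIdeal_ofIdealTop L').le.trans hL'le)
      · exact (Groth.Agent.H14AlgSt.comap_eq_bot_iff_factors J d.left).2
          ⟨d'.left, congrArg CommaMorphism.left hd⟩)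
  have hrep : (idealSub p (Scheme.IdealSheafData.ofIdealTop L')).obj.IsRepresentable := by
    refine hmin _ _ hZ' hcl (fun h => hL'ne ?_) ⟨k, hk⟩
    have h1 := inIdeal_of_factor (p ≫ inv (idealSubι p (Scheme.IdealSheafData.ofIdealTop L'))) U (𝟙 U) (𝟙 U)
      (by simp)
    rw [Over.id_left, Scheme.IdealSheafData.comap_id] at h1
    rw [← topIdeal_ofIdealTop L', h1]
    exact le_bot_iff.1 ((topIdeal_le_iff.2 bot_le).trans (topIdeal_ofIdealTop (X := U.left) ⊥).le)
  have hkt : IsThickMor k := by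
    have hk1 : RepWith @IsClosedImmersion k := repWith_of_comp_mono hc hk
    refine repWith_inf_iff.2 ⟨hk1, repWith_surjective_of_map hk1.1 ?_⟩
    have hs : Function.Surjective (Points.map k) := fun y => by
      obtain ⟨x, hx⟩ := surjective_map_of_repWith (P := thick) (fun _ _ _ h => h.2) hi (Points.map (idealSubι p _) y)
      exact ⟨x, injective_map_of_mono (idealSubι p _) (by rw [← Points.map_comp, hk, hx])⟩
    exact hs
  obtain ⟨W', ⟨ρ⟩⟩ := isRepresentable_iff_exists_iso.1 hrep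
  have : IsAffine W'.left := isAffine_of_thickMor hZ' hkt ρ
  obtain ⟨q₂', sq₂⟩ := hcut
  let i₂ : (yon S).obj W' ⟶ Z := ρ.hom ≫ idealSubι p (Scheme.IdealSheafData.ofIdealTop L')
  obtain ⟨q₂, hq₂⟩ := (yon S).map_surjective (q₂' ≫ ρ.inv)
  have sqW : IsPullback ((yon S).map q₂) ((yon S).map (subIncl U (Scheme.IdealSheafData.ofIdealTop L'))) i₂ p :=
    sq₂.of_iso (Iso.refl _) ρ.symm (Iso.refl _) (Iso.refl _) (by simp [hq₂]) (by simp) (by simp [i₂]) (by simp)
  have : Mono i₂ := inferInstance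
  obtain ⟨hinv', A', _, _, het', hff', ⟨W2⟩⟩ := exists_restr sq sqW hp hps
  obtain ⟨het₀, hff₀, χ, hχ, hχb⟩ := W2.square_zero hinv' (fun x hx y hy =>
    hsq x ((topIdeal_ofIdealTop L').le hx) y ((topIdeal_ofIdealTop L').le hy))
  obtain ⟨M, -, ⟨e⟩⟩ := exists_quotient hp hps sq het₀ hff₀ χ hχ hχb
  exact isRepresentable_iff_exists_iso.2 ⟨M, ⟨e⟩⟩

/-- A thickening of an affine scheme is an affine scheme, over a quasi-separated base. -/
theorem exists_affine_of_thickening [QuasiSeparatedSpace S] {Z : Sp S} (hZ : IsAlgSpace Z) {T : Over S}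
    [IsAffine T.left] {i : (yon S).obj T ⟶ Z} (hi : IsThickMor i) :
    ∃ M : Over S, IsAffine M.left ∧ Nonempty ((yon S).obj M ≅ Z) := by
  suffices h : Z.obj.IsRepresentable by
    obtain ⟨M, ⟨e⟩⟩ := isRepresentable_iff_exists_iso.1 h
    exact ⟨M, isAffine_of_thickMor hZ hi e, ⟨e⟩⟩
  obtain ⟨U, R, p, s, t, _, _, hp, hps, sq, hqc⟩ := exists_affine_pair hZ hi
  have hqs : IsQuasiSeparatedSp Z := isQuasiSeparatedSp_of_qc_proj hZ hp hps sq inferInstance
  have hc : RepWith @IsClosedImmersion i := repWith_le (fun _ _ _ h => h.1) hi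
  have := mono_of_closedImmersion hc
  obtain ⟨J, hJ⟩ := exists_cutsOut hc p
  have hJi : InvIdeal p J := fun A d d' e => hJ.comap_eq hJ e
  by_contra hns
  have hb : InvIdeal p ⊥ := fun A d d' _ => by simp
  have hbot : ¬ (idealSub p ⊥).obj.IsRepresentable := fun h => hns (by
    have : IsIso (idealSubι p ⊥) := by
      obtain ⟨k, hk⟩ := exists_lift_idealSub (p := p) (I := ⊥) (𝟙 Z) fun T x A a d _ =>
        Scheme.IdealSheafData.comap_bot _
      exact ⟨k, (cancel_mono (idealSubι p ⊥)).1 (by rw [Category.assoc, hk, Category.comp_id, Category.id_comp]), hk⟩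
    obtain ⟨T, ⟨ρ⟩⟩ := isRepresentable_iff_exists_iso.1 h
    exact isRepresentable_iff_exists_iso.2 ⟨T, ⟨ρ ≪≫ asIso (idealSubι p ⊥)⟩⟩)
  obtain ⟨I, -, hI⟩ := zorn_le_nonempty₀ {I | InvIdeal p I ∧ I ≤ J ∧ ¬ (idealSub p I).obj.IsRepresentable}
    (fun C hC hCc y hy => by
      haveI : Nonempty C := ⟨⟨y, hy⟩⟩
      haveI : IsDirected C (· ≤ ·) :=
        ⟨fun a b => (hCc.total a.2 b.2).elim (fun h => ⟨b, h, le_rfl⟩) fun h => ⟨a, le_rfl, h⟩⟩
      refine ⟨⨆ i : C, i.1, ⟨invIdeal_iSup (fun i : C => i.1) (fun i => (hC i.2).1),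
        iSup_le fun i => (hC i.2).2.1, fun hr => ?_⟩, fun z hz => le_iSup (fun i : C => i.1) ⟨z, hz⟩⟩
      obtain ⟨i, hi⟩ := isRepresentable_idealSub_iSup hZ hp hps hqc hqs (fun i : C => i.1) (fun _ _ h => h)
        (fun i => (hC i.2).1) hr
      exact (hC i.2).2.2 hi) ⊥ ⟨hb, bot_le, hbot⟩
  obtain ⟨hI₁, hI₂, hI₃⟩ := hI.prop
  obtain ⟨hZI, hcl, hcut⟩ := idealSub_props hZ hp hps hI₁
  obtain ⟨k, hk⟩ := (factor_iff_le (IsAlgSpace.yon_obj T) hp hps hcl hcut hJ).2 hI₂
  have hkt : IsThickMor k := by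
    have hk1 : RepWith @IsClosedImmersion k := repWith_of_comp_mono hc hk
    refine repWith_inf_iff.2 ⟨hk1, repWith_surjective_of_map hk1.1 ?_⟩
    have hs : Function.Surjective (Points.map k) := fun y => by
      obtain ⟨x, hx⟩ := surjective_map_of_repWith (P := thick) (fun _ _ _ h => h.2) hi (Points.map (idealSubι p _) y)
      exact ⟨x, injective_map_of_mono (idealSubι p _) (by rw [← Points.map_comp, hk, hx])⟩
    exact hs
  refine hI₃ (isRepresentable_of_minimal hZI hkt fun Z' i' hZ' hi' hne ⟨k₂, hk₂⟩ => ?_)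
  let j := i' ≫ idealSubι p I
  have hj : RepWith @IsClosedImmersion j := repWith_comp hi' hcl
  obtain ⟨J', hJ'⟩ := exists_cutsOut hj p
  have hJ'i : InvIdeal p J' := fun A d d' e => hJ'.comap_eq hJ' e
  obtain ⟨hZJ, hclJ, hcutJ⟩ := idealSub_props hZ hp hps hJ'i
  have hle : I ≤ J' := (factor_iff_le hZ' hp hps hcl hcut hJ').1 ⟨i', rfl⟩
  have hle' : J' ≤ J := (factor_iff_le (IsAlgSpace.yon_obj T) hp hps hj hJ' hJ).1
    ⟨k₂, by rw [← Category.assoc, hk₂, hk]⟩
  obtain ⟨l, hl⟩ := (factor_iff_le hZ' hp hps hclJ hcutJ hJ').2 le_rfl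
  obtain ⟨l', hl'⟩ := (factor_iff_le hZJ hp hps hj hJ' hcutJ).2 le_rfl
  have := mono_of_closedImmersion hj
  have hll : IsIso l := ⟨l', (cancel_mono j).1 (by rw [Category.assoc, hl', hl, Category.id_comp]),
    (cancel_mono (idealSubι p J')).1 (by rw [Category.assoc, hl, hl', Category.id_comp])⟩
  have hlt : I < J' := hle.lt_of_ne fun e => hne (by
    subst e
    exact (cancel_mono (idealSubι p I)).1 hl ▸ hll)
  by_contra hn
  refine hlt.not_ge (hI.le_of_ge ⟨hJ'i, hle', fun hr => hn ?_⟩ hlt.le)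
  obtain ⟨T', ⟨ρ⟩⟩ := isRepresentable_iff_exists_iso.1 hr
  exact isRepresentable_iff_exists_iso.2 ⟨T', ⟨ρ ≪≫ (asIso l).symm⟩⟩

end Groth.Agent.H13AlgSp.ThickAff
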