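import Groth.Agent.H13AlgSp.ThickAff.Base
import Groth.Agent.H12AlgSp.AffineMor

/-!
Affine and representable morphisms of thickenings.
-/

universe u

open CategoryTheory CategoryTheory.Limits AlgebraicGeometry Opposite
open AlgSp Groth.Agent.H12AlgSp Groth.Agent.H13AlgSp

namespace Groth.Agent.H13AlgSp.ThickAff

variable {S : Scheme.{u}} {X X' Y Y' : Sp S} {i : X ⟶ X'} {j : Y ⟶ Y'} {f : X ⟶ Y} {f' : X' ⟶ Y'}

/-- The base change of a thick morphism to a scheme receives a thickening from one of the thin morphism. -/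
theorem exists_thick_pullback (hi : IsThickMor i) (w : i ≫ f' = f ≫ j) {Z Z₀ W₀ : Over S}
    {g : (yon S).obj Z ⟶ Y'} {jZ : Z₀ ⟶ Z} {g₀ : (yon S).obj Z₀ ⟶ Y}
    (sqZ : IsPullback g₀ ((yon S).map jZ) j g) {w₀ : W₀ ⟶ Z₀} {k₀ : (yon S).obj W₀ ⟶ X}
    (sq : IsPullback k₀ ((yon S).map w₀) f g₀) :
    ∃ θ : (yon S).obj W₀ ⟶ pullback f' g, IsThickMor θ := by
  have sq₁ : IsPullback k₀ ((yon S).map w₀ ≫ (yon S).map jZ) (f ≫ j) g := sq.paste_vert sqZ
  let θ : (yon S).obj W₀ ⟶ pullback f' g := pullback.lift (k₀ ≫ i) ((yon S).map w₀ ≫ (yon S).map jZ)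
    (by rw [Category.assoc, w, sq₁.w])
  have h : IsPullback k₀ θ i (pullback.fst f' g) :=
    IsPullback.of_bot (v₂₁ := pullback.snd f' g) (v₂₂ := f') (by
      rw [show θ ≫ pullback.snd f' g = _ from pullback.lift_snd _ _ _, w]; exact sq₁)
      (pullback.lift_fst _ _ _).symm (IsPullback.of_hasPullback f' g)
  exact ⟨θ, repWith_of_isPullback h hi⟩

theorem representable_of_thin (hX' : IsAlgSpace X') (hY' : IsAlgSpace Y') (hi : IsThickMor i) (hj : IsThickMor j)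
    (w : i ≫ f' = f ≫ j) (hf : Representable f) : Representable f' :=
  fun Z g => by
    obtain ⟨Z₀, jZ, g₀, sqZ⟩ := hj.rep g
    obtain ⟨W₀, w₀, k₀, sq⟩ := hf g₀
    obtain ⟨θ, hθ⟩ := exists_thick_pullback hi w sqZ sq
    obtain ⟨M, ⟨e⟩⟩ := exists_iso_of_thickMor (isAlgSpace_pullback hY'.diag hX' (IsAlgSpace.yon_obj Z) f' g) hθ
    obtain ⟨a, ha⟩ := (yon S).map_surjective (e.hom ≫ pullback.snd f' g)
    refine ⟨M, a, e.hom ≫ pullback.fst f' g, ?_⟩
    rw [ha]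
    exact (IsPullback.of_hasPullback f' g).of_iso e.symm (Iso.refl _) (Iso.refl _) (Iso.refl _)
      (by simp) (by simp) (by simp) (by simp)

theorem isAffineMor_of_thin (hX' : IsAlgSpace X') (hY' : IsAlgSpace Y') (hi : IsThickMor i) (hj : IsThickMor j)
    (w : i ≫ f' = f ≫ j) (hf : IsAffineMor f) : IsAffineMor f' := fun Z hZ g => by
  obtain ⟨Z₀, jZ, g₀, sqZ⟩ := hj.rep g
  have : IsClosedImmersion jZ.left := (hj.property g g₀ jZ sqZ).1
  have : IsAffine Z₀.left := isAffine_of_isAffineHom jZ.left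
  obtain ⟨W₀, w₀, k₀, sq, hW₀⟩ := hf ‹IsAffine Z₀.left› g₀
  obtain ⟨θ, hθ⟩ := exists_thick_pullback hi w sqZ sq
  obtain ⟨M, hM, ⟨e⟩⟩ :=
    exists_affine_iso_of_thickMor (isAlgSpace_pullback hY'.diag hX' (IsAlgSpace.yon_obj Z) f' g) hθ
  obtain ⟨a, ha⟩ := (yon S).map_surjective (e.hom ≫ pullback.snd f' g)
  refine ⟨M, a, e.hom ≫ pullback.fst f' g, ?_, hM⟩
  rw [ha]
  exact (IsPullback.of_hasPullback f' g).of_iso e.symm (Iso.refl _) (Iso.refl _) (Iso.refl _)
    (by simp) (by simp) (by simp) (by simp)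

theorem repWith_of_thick {P : MorphismProperty Scheme.{u}} [P.IsStableUnderBaseChange] [P.IsStableUnderComposition]
    (hP : @IsClosedImmersion ≤ P) (hY' : IsAlgSpace Y') (hi : IsThickMor i) (hj : IsThickMor j)
    (w : i ≫ f' = f ≫ j) (hf' : RepWith P f') : RepWith P f := by
  have : Mono j := (Thick.props_of_isThickMor hY' hj).1
  exact repWith_of_comp_mono (f₂ := j) (repWith_comp (repWith_le (fun U V k (h : thick k) => hP _ _ _ h.1) hi) hf') w.symm

end Groth.Agent.H13AlgSp.ThickAff
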