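import Groth.Agent.H13AlgSp.ThickAff.Hull
import Groth.Agent.H13AlgSp.ThickAff.FlatIdeal

/-!
A nonzero invariant nil ideal of an etale relation of rings contains a nonzero nilpotent one.
-/

universe u

open TensorProduct Polynomial

set_option backward.isDefEq.respectTransparency false
set_option backward.isDefEq.respectTransparency.types false

namespace Groth.Agent.H13AlgSp.ThickAff

variable {B C : Type u} [CommRing B] [CommRing C]

/-- The members of an ideal supported on the closed set of a list. -/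
def supportedIn (I : Ideal B) : List B → Ideal B
  | [] => I
  | b :: l => sat ⊥ b ⊓ supportedIn I l

theorem supportedIn_le (I : Ideal B) : ∀ l, supportedIn I l ≤ I
  | [] => le_rfl
  | _ :: l => inf_le_right.trans (supportedIn_le I l)

theorem mem_supportedIn_ann {I : Ideal B} {g : B} :
    ∀ {l : List B}, g ∈ supportedIn I l → ∀ b ∈ l, g ∈ sat ⊥ b
  | [], _, b, hb => (List.not_mem_nil hb).elim
  | a :: l, hg, b, hb => by
    rcases List.mem_cons.1 hb with rfl | hb
    · exact hg.1
    · exact mem_supportedIn_ann hg.2 b hb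

theorem inv_supportedIn (G : RingRel B C) {I : Ideal B} (hI : G.Inv I) :
    ∀ {l : List B}, (∀ b ∈ l, IsNilpotent (G.t b - G.s b)) → G.Inv (supportedIn I l)
  | [], _ => hI
  | a :: l, h => by
    have ih : G.Inv (supportedIn I l) := inv_supportedIn G hI fun b hb => h b (List.mem_cons_of_mem _ hb)
    show Ideal.map G.s _ = Ideal.map G.t _
    rw [supportedIn, map_inf_of_flat G.flat_s, map_inf_of_flat G.flat_t, map_sat_of_flat G.flat_s,
      map_sat_of_flat G.flat_t, Ideal.map_bot, Ideal.map_bot, ih,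
      sat_eq_of_nilpotent (h a (List.mem_cons_self ..))]

theorem comap_map_sat {R : Type u} [CommRing R] (K : Ideal R) (a : R) (L : Type u) [CommRing L] [Algebra R L]
    [IsLocalization.Away a L] : (K.map (algebraMap R L)).comap (algebraMap R L) = sat K a := by
  ext x
  rw [Ideal.mem_comap, IsLocalization.algebraMap_mem_map_algebraMap_iff (Submonoid.powers a) L]
  constructor
  · rintro ⟨_, ⟨n, rfl⟩, h⟩; exact ⟨n, h⟩
  · rintro ⟨n, h⟩; exact ⟨_, ⟨n, rfl⟩, h⟩

namespace RingRel

variable (G : RingRel B C) (f : B)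

abbrev Bf := Localization.Away f
abbrev Cf := Localization.Away (G.s f)

theorem isUnit_t {f : B} (hf : IsNilpotent (G.t f - G.s f)) :
    IsUnit (algebraMap C (G.Cf f) (G.t f)) := by
  rw [show G.t f = (G.t f - G.s f) + G.s f by ring, map_add]
  exact (hf.map (algebraMap C (G.Cf f))).isUnit_add_right_of_commute
    (IsLocalization.Away.algebraMap_isUnit (G.s f)) (Commute.all _ _)

/-- The source map on localizations. -/
noncomputable def sLoc : Bf f →+* G.Cf f :=
  IsLocalization.Away.lift f (g := (algebraMap C (G.Cf f)).comp G.s) (IsLocalization.Away.algebraMap_isUnit (G.s f))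

/-- The target map on localizations. -/
noncomputable def tLoc (hf : IsNilpotent (G.t f - G.s f)) : Bf f →+* G.Cf f :=
  IsLocalization.Away.lift f (g := (algebraMap C (G.Cf f)).comp G.t) (G.isUnit_t hf)

/-- The identity on localizations. -/
noncomputable def eLoc : G.Cf f →+* Bf f :=
  IsLocalization.Away.lift (G.s f) (g := (algebraMap B (Bf f)).comp G.e) (by
    rw [RingHom.comp_apply, G.e_s]; exact IsLocalization.Away.algebraMap_isUnit f)

theorem sLoc_map (b : B) : G.sLoc f (algebraMap B (Bf f) b) = algebraMap C (G.Cf f) (G.s b) :=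
  IsLocalization.Away.lift_eq _ _ _

theorem tLoc_map (hf : IsNilpotent (G.t f - G.s f)) (b : B) :
    G.tLoc f hf (algebraMap B (Bf f) b) = algebraMap C (G.Cf f) (G.t b) :=
  IsLocalization.Away.lift_eq _ _ _

theorem eLoc_map (c : C) : G.eLoc f (algebraMap C (G.Cf f) c) = algebraMap B (Bf f) (G.e c) :=
  IsLocalization.Away.lift_eq _ _ _

/-- The map between pairs of arrows induced by localization. -/
noncomputable def pairLoc (p q : B →+* C) (p' q' : Bf f →+* G.Cf f)
    (hp : ∀ b, p' (algebraMap B (Bf f) b) = algebraMap C (G.Cf f) (p b))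
    (hq : ∀ b, q' (algebraMap B (Bf f) b) = algebraMap C (G.Cf f) (q b)) :
    Via p ⊗[B] Via q →+* Via p' ⊗[Bf f] Via q' :=
  letI : Algebra B (Via p' ⊗[Bf f] Via q') :=
    ((algebraMap (Bf f) (Via p' ⊗[Bf f] Via q')).comp (algebraMap B (Bf f))).toAlgebra
  (Algebra.TensorProduct.lift
    ({ ((Algebra.TensorProduct.includeLeftRingHom :
          Via p' →+* Via p' ⊗[Bf f] Via q').comp ((Via.mk p').comp (algebraMap C (G.Cf f)))) with
        commutes' := fun b => by
          show (Via.mk p' (algebraMap C (G.Cf f) (p b))) ⊗ₜ[Bf f] (1 : Via q') = _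
          rw [← hp]
          rfl } : Via p →ₐ[B] Via p' ⊗[Bf f] Via q')
    ({ ((Algebra.TensorProduct.includeRight (R := Bf f) (A := Via p') (B := Via q')).toRingHom.comp
          ((Via.mk q').comp (algebraMap C (G.Cf f)))) with
        commutes' := fun b => by
          show (1 : Via p') ⊗ₜ[Bf f] (Via.mk q' (algebraMap C (G.Cf f) (q b))) = _
          rw [← hq]
          exact (Algebra.TensorProduct.includeRight (R := Bf f) (A := Via p') (B := Via q')).commutes _ } :
      Via q →ₐ[B] Via p' ⊗[Bf f] Via q')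
    fun _ _ => Commute.all _ _).toRingHom

theorem pairLoc_tmul (p q : B →+* C) (p' q' : Bf f →+* G.Cf f)
    (hp : ∀ b, p' (algebraMap B (Bf f) b) = algebraMap C (G.Cf f) (p b))
    (hq : ∀ b, q' (algebraMap B (Bf f) b) = algebraMap C (G.Cf f) (q b)) (x y : C) :
    G.pairLoc f p q p' q' hp hq (Via.mk p x ⊗ₜ[B] Via.mk q y) =
      Via.mk p' (algebraMap C (G.Cf f) x) ⊗ₜ[Bf f] Via.mk q' (algebraMap C (G.Cf f) y) := by
  letI : Algebra B (Via p' ⊗[Bf f] Via q') :=
    ((algebraMap (Bf f) (Via p' ⊗[Bf f] Via q')).comp (algebraMap B (Bf f))).toAlgebra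
  refine (Algebra.TensorProduct.lift_tmul _ _ _ _ _).trans ?_
  show (_ ⊗ₜ[Bf f] (1 : Via q')) * ((1 : Via p') ⊗ₜ[Bf f] _) = _
  rw [Algebra.TensorProduct.tmul_mul_tmul, mul_one, one_mul]
  rfl

theorem flat_loc {p : B →+* C} (hp : p.Flat) {p' : Bf f →+* G.Cf f}
    (h : ∀ b, p' (algebraMap B (Bf f) b) = algebraMap C (G.Cf f) (p b)) : p'.Flat := by
  let := p.toAlgebra
  let := p'.toAlgebra
  have : IsScalarTower B (Bf f) (G.Cf f) := IsScalarTower.of_algebraMap_eq fun b =>
    (IsScalarTower.algebraMap_apply B C (G.Cf f) b).trans (h b).symm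
  have : Module.Flat B C := hp
  have : Module.Flat C (G.Cf f) := IsLocalization.flat (G.Cf f) (Submonoid.powers (G.s f))
  have : Module.Flat B (G.Cf f) := Module.Flat.trans B C (G.Cf f)
  exact (Module.flat_iff_of_isLocalization (Bf f) (Submonoid.powers f) (G.Cf f)).2 this

/-- The division of arrows on localizations. -/
noncomputable def divLoc (hf : IsNilpotent (G.t f - G.s f)) :
    G.Cf f →+* Via (G.sLoc f) ⊗[Bf f] Via (G.sLoc f) :=
  IsLocalization.Away.lift (G.s f) (g := (G.pairLoc f G.s G.s (G.sLoc f) (G.sLoc f)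
      (G.sLoc_map f) (G.sLoc_map f)).comp G.div) (by
    rw [RingHom.comp_apply, G.div_s, show (1 : Via G.s) = Via.mk G.s 1 from rfl, pairLoc_tmul, map_one]
    exact ((G.isUnit_t hf).map (Via.mk (G.sLoc f))).map Algebra.TensorProduct.includeLeftRingHom)

theorem divLoc_map (hf : IsNilpotent (G.t f - G.s f)) (c : C) :
    G.divLoc f hf (algebraMap C (G.Cf f) c) =
      G.pairLoc f G.s G.s (G.sLoc f) (G.sLoc f) (G.sLoc_map f) (G.sLoc_map f) (G.div c) :=
  IsLocalization.Away.lift_eq _ _ _

/-- The composition of arrows on localizations. -/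
noncomputable def compLoc (hf : IsNilpotent (G.t f - G.s f)) :
    G.Cf f →+* Via (G.tLoc f hf) ⊗[Bf f] Via (G.sLoc f) :=
  IsLocalization.Away.lift (G.s f) (g := (G.pairLoc f G.t G.s (G.tLoc f hf) (G.sLoc f)
      (G.tLoc_map f hf) (G.sLoc_map f)).comp G.comp) (by
    rw [RingHom.comp_apply, G.comp_s, show (1 : Via G.s) = Via.mk G.s 1 from rfl, pairLoc_tmul, map_one]
    exact ((IsLocalization.Away.algebraMap_isUnit (G.s f)).map (Via.mk (G.tLoc f hf))).map
      Algebra.TensorProduct.includeLeftRingHom)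

theorem compLoc_map (hf : IsNilpotent (G.t f - G.s f)) (c : C) :
    G.compLoc f hf (algebraMap C (G.Cf f) c) =
      G.pairLoc f G.t G.s (G.tLoc f hf) (G.sLoc f) (G.tLoc_map f hf) (G.sLoc_map f) (G.comp c) :=
  IsLocalization.Away.lift_eq _ _ _

/-- The localization of a relation at an element invariant up to nilpotents. -/
noncomputable def loc (hf : IsNilpotent (G.t f - G.s f)) : RingRel (Bf f) (G.Cf f) where
  s := G.sLoc f
  t := G.tLoc f hf
  e := G.eLoc f
  e_s := RingHom.congr_fun (IsLocalization.ringHom_ext (Submonoid.powers f)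
    (j := (G.eLoc f).comp (G.sLoc f)) (k := RingHom.id _) (RingHom.ext fun b => by
      simp only [RingHom.comp_apply, RingHom.id_apply, sLoc_map, eLoc_map, G.e_s]))
  e_t := RingHom.congr_fun (IsLocalization.ringHom_ext (Submonoid.powers f)
    (j := (G.eLoc f).comp (G.tLoc f hf)) (k := RingHom.id _) (RingHom.ext fun b => by
      simp only [RingHom.comp_apply, RingHom.id_apply, tLoc_map, eLoc_map, G.e_t]))
  div := G.divLoc f hf
  div_s := RingHom.congr_fun (IsLocalization.ringHom_ext (Submonoid.powers f)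
    (j := (G.divLoc f hf).comp (G.sLoc f))
    (k := Algebra.TensorProduct.includeLeftRingHom.comp ((Via.mk (G.sLoc f)).comp (G.tLoc f hf)))
    (RingHom.ext fun b => by
      simp only [RingHom.comp_apply, sLoc_map, tLoc_map, divLoc_map, G.div_s]
      rw [show (1 : Via G.s) = Via.mk G.s 1 from rfl, pairLoc_tmul, map_one]
      rfl))
  div_t := RingHom.congr_fun (IsLocalization.ringHom_ext (Submonoid.powers f)
    (j := (G.divLoc f hf).comp (G.tLoc f hf))
    (k := (Algebra.TensorProduct.includeRight (R := Bf f) (A := Via (G.sLoc f)) (B := Via (G.sLoc f))).toRingHom.comp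
      ((Via.mk (G.sLoc f)).comp (G.tLoc f hf)))
    (RingHom.ext fun b => by
      simp only [RingHom.comp_apply, tLoc_map, divLoc_map, G.div_t]
      rw [show (1 : Via G.s) = Via.mk G.s 1 from rfl, pairLoc_tmul, map_one]
      rfl))
  comp := G.compLoc f hf
  comp_s := RingHom.congr_fun (IsLocalization.ringHom_ext (Submonoid.powers f)
    (j := (G.compLoc f hf).comp (G.sLoc f))
    (k := Algebra.TensorProduct.includeLeftRingHom.comp ((Via.mk (G.tLoc f hf)).comp (G.sLoc f)))
    (RingHom.ext fun b => by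
      simp only [RingHom.comp_apply, sLoc_map, compLoc_map, G.comp_s]
      rw [show (1 : Via G.s) = Via.mk G.s 1 from rfl, pairLoc_tmul, map_one]
      rfl))
  comp_t := RingHom.congr_fun (IsLocalization.ringHom_ext (Submonoid.powers f)
    (j := (G.compLoc f hf).comp (G.tLoc f hf))
    (k := (Algebra.TensorProduct.includeRight (R := Bf f) (A := Via (G.tLoc f hf)) (B := Via (G.sLoc f))).toRingHom.comp
      ((Via.mk (G.sLoc f)).comp (G.tLoc f hf)))
    (RingHom.ext fun b => by
      simp only [RingHom.comp_apply, tLoc_map, compLoc_map, G.comp_t]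
      rw [show (1 : Via G.t) = Via.mk G.t 1 from rfl, pairLoc_tmul, map_one]
      rfl))
  flat_s := G.flat_loc f G.flat_s (G.sLoc_map f)
  flat_t := G.flat_loc f G.flat_t (G.tLoc_map f hf)

end RingRel

end Groth.Agent.H13AlgSp.ThickAff
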