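import Groth.Agent.H13AlgSp.ThickAff.Hull

/-!
Fibre products of affine schemes as tensor products, and ideal sheaves of affine schemes pulled back.
-/

universe u

open CategoryTheory CategoryTheory.Limits AlgebraicGeometry TensorProduct

set_option backward.isDefEq.respectTransparency false
set_option backward.isDefEq.respectTransparency.types false

namespace Groth.Agent.H13AlgSp.ThickAff

theorem exists_tensor_of_isPushout {A X Y P : CommRingCat.{u}} {f : A ⟶ X} {g : A ⟶ Y} {l : X ⟶ P} {r : Y ⟶ P}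
    (h : IsPushout f g l r) :
    ∃ φ : Via f.hom ⊗[A] Via g.hom →+* P, Function.Bijective φ ∧
      ∀ x y, φ (Via.mk f.hom x ⊗ₜ[A] Via.mk g.hom y) = l.hom x * r.hom y := by
  have h0 : IsPushout f g
      (CommRingCat.ofHom (R := X) (S := Via f.hom ⊗[A] Via g.hom)
        (Algebra.TensorProduct.includeLeftRingHom.comp (Via.mk f.hom)))
      (CommRingCat.ofHom (R := Y) (S := Via f.hom ⊗[A] Via g.hom)
        ((Algebra.TensorProduct.includeRight (R := A) (A := Via f.hom) (B := Via g.hom)).toRingHom.comp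
          (Via.mk g.hom))) :=
    CommRingCat.isPushout_tensorProduct A (Via f.hom) (Via g.hom)
  let e := h0.isoIsPushout _ _ h
  refine ⟨e.hom.hom, ConcreteCategory.bijective_of_isIso e.hom, fun x y => ?_⟩
  have h1 := ConcreteCategory.congr_hom (h0.inl_isoIsPushout_hom _ _ h) x
  have h2 := ConcreteCategory.congr_hom (h0.inr_isoIsPushout_hom _ _ h) y
  refine Eq.trans ?_ (congrArg₂ (· * ·) h1 h2)
  rw [show Via.mk f.hom x ⊗ₜ[A] Via.mk g.hom y = Via.mk f.hom x ⊗ₜ[A] 1 * 1 ⊗ₜ[A] Via.mk g.hom y by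
    rw [Algebra.TensorProduct.tmul_mul_tmul, mul_one, one_mul], map_mul]
  rfl

theorem exists_tensor_of_isPullback {P X Y Z : Scheme.{u}} {a : P ⟶ X} {b : P ⟶ Y} {f : X ⟶ Z} {g : Y ⟶ Z}
    [IsAffine X] [IsAffine Y] [IsAffine Z] (h : IsPullback a b f g) :
    ∃ φ : Via f.appTop.hom ⊗[Γ(Z, ⊤)] Via g.appTop.hom →+* Γ(P, ⊤), Function.Bijective φ ∧
      ∀ x y, φ (Via.mk f.appTop.hom x ⊗ₜ[Γ(Z, ⊤)] Via.mk g.appTop.hom y) = a.appTop.hom x * b.appTop.hom y :=
  exists_tensor_of_isPushout (isPushout_appTop_of_isPullback h)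

/-- A ring map into the tensor product from a map into the fibre product. -/
theorem exists_hom_of_pair {P X Y Z W : Scheme.{u}} {a : P ⟶ X} {b : P ⟶ Y} {f : X ⟶ Z} {g : Y ⟶ Z}
    [IsAffine X] [IsAffine Y] [IsAffine Z] (h : IsPullback a b f g) (c : P ⟶ W) :
    ∃ γ : Γ(W, ⊤) →+* Via f.appTop.hom ⊗[Γ(Z, ⊤)] Via g.appTop.hom, ∀ (w : Γ(W, ⊤)) x y,
      c.appTop.hom w = a.appTop.hom x * b.appTop.hom y →
        γ w = Via.mk f.appTop.hom x ⊗ₜ[Γ(Z, ⊤)] Via.mk g.appTop.hom y := by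
  obtain ⟨φ, hb, hφ⟩ := exists_tensor_of_isPullback h
  refine ⟨(RingEquiv.ofBijective φ hb).symm.toRingHom.comp c.appTop.hom, fun w x y e => hb.1 ?_⟩
  exact ((RingEquiv.ofBijective φ hb).apply_symm_apply _).trans (e.trans (hφ x y).symm)

/-- The global ideal of an ideal sheaf. -/
noncomputable abbrev topIdeal {X : Scheme.{u}} [IsAffine X] (I : X.IdealSheafData) : Ideal Γ(X, ⊤) :=
  I.ideal ⟨⊤, isAffineOpen_top X⟩

theorem topIdeal_ofIdealTop {X : Scheme.{u}} [IsAffine X] (K : Ideal Γ(X, ⊤)) :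
    topIdeal (Scheme.IdealSheafData.ofIdealTop K) = K :=
  Scheme.IdealSheafData.equivOfIsAffine.apply_symm_apply K

theorem topIdeal_le_iff {X : Scheme.{u}} [IsAffine X] {I J : X.IdealSheafData} :
    topIdeal I ≤ topIdeal J ↔ I ≤ J :=
  ⟨Scheme.IdealSheafData.le_of_isAffine, fun h => h _⟩

theorem topIdeal_comap {X Y : Scheme.{u}} [IsAffine X] [IsAffine Y] (g : X ⟶ Y) (I : Y.IdealSheafData) :
    topIdeal (I.comap g) = (topIdeal I).map g.appTop.hom := by
  refine eq_of_forall_ge_iff fun L => ?_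
  rw [← topIdeal_ofIdealTop L, topIdeal_le_iff, ← Scheme.IdealSheafData.le_map_iff_comap_le, ← topIdeal_le_iff,
    Ideal.map_le_iff_le_comap, topIdeal_ofIdealTop]
  rw [show topIdeal ((Scheme.IdealSheafData.ofIdealTop L).map g) = L.comap g.appTop.hom from
    ((Scheme.IdealSheafData.ideal_map_of_isAffineHom _ g ⟨⊤, isAffineOpen_top Y⟩).trans (by
      exact congrArg (Ideal.comap g.appTop.hom) (topIdeal_ofIdealTop L)))]

theorem ker_subschemeι_appTop {X : Scheme.{u}} [IsAffine X] (I : X.IdealSheafData) :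
    RingHom.ker I.subschemeι.appTop.hom = topIdeal I :=
  I.ker_subschemeι_app ⟨⊤, isAffineOpen_top X⟩

end Groth.Agent.H13AlgSp.ThickAff
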