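import Mathlib

/-!
Strata of an etale algebra over which it is finite.
-/

universe u

open Polynomial TensorProduct

set_option backward.isDefEq.respectTransparency false
set_option backward.isDefEq.respectTransparency.types false

namespace Groth.Agent.H13AlgSp.ThickAff

variable {A B : Type u} [CommRing A] [CommRing B] [Algebra A B]

/-- The elements of a list, as a set. -/
abbrev listSet (l : List A) : Set A := {a | a ∈ l}

/-- Over `D(f) ∩ V(l)` the element is integral. -/
def IntegralOn (l : List A) (f : A) (x : B) : Prop :=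
  ∃ (n : ℕ) (P : A[X]), P.Monic ∧ aeval (f ^ n • x) P ∈ (Ideal.span (listSet l)).map (algebraMap A B)

/-- The complement of `V(l)` extends by strata over which the given elements are integral to everything. -/
inductive Strat (G : Set B) : List A → Prop
  | done (l : List A) (h : Ideal.span (listSet l) = ⊤) : Strat G l
  | step (l : List A) (f : A) (hf : ∀ x ∈ G, IntegralOn l f x) (h : Strat G (f :: l)) : Strat G l

theorem IntegralOn.map {A' B' : Type u} [CommRing A'] [CommRing B'] [Algebra A' B'] (g : A →+* A') (h : B →+* B')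
    (w : h.comp (algebraMap A B) = (algebraMap A' B').comp g) {l : List A} {f : A} {x : B}
    (hx : IntegralOn l f x) : IntegralOn (l.map g) (g f) (h x) := by
  obtain ⟨n, P, hP, hmem⟩ := hx
  refine ⟨n, P.map g, hP.map g, ?_⟩
  have hsmul : g f ^ n • h x = h (f ^ n • x) := by
    rw [Algebra.smul_def, Algebra.smul_def, map_mul, ← map_pow]
    exact congrArg (· * h x) (RingHom.congr_fun w _).symm
  have e : aeval (g f ^ n • h x) (P.map g) = h (aeval (f ^ n • x) P) := by
    rw [aeval_def, eval₂_map, hsmul, aeval_def, hom_eval₂, w]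
  rw [e]
  have hset : g '' listSet l = listSet (l.map g) := by ext; simp
  rw [← hset, ← Ideal.map_span, Ideal.map_map, ← w, ← Ideal.map_map]
  exact Ideal.mem_map_of_mem h hmem

theorem Strat.map {A' B' : Type u} [CommRing A'] [CommRing B'] [Algebra A' B'] (g : A →+* A') (h : B →+* B')
    (w : h.comp (algebraMap A B) = (algebraMap A' B').comp g) {l : List A} {G : Set B}
    (hs : Strat G l) : Strat (h '' G) (l.map g) := by
  induction hs with
  | done l hl =>
    refine .done _ ?_
    have hset : g '' listSet l = listSet (l.map g) := by ext; simp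
    rw [← hset, ← Ideal.map_span, hl, Ideal.map_top]
  | step l f hf _ ih =>
    refine .step _ (g f) (fun _ ⟨x, hx, e⟩ => e ▸ (hf x hx).map g h w) ?_
    simpa using ih

theorem finite_baseChange (R : Type u) [CommRing R] [Algebra A R] [IsArtinianRing R] [Algebra.QuasiFinite A B] :
    Module.Finite R (R ⊗[A] B) :=
  Module.Finite.of_quasiFinite

/-- Near a minimal prime of a closed set a quasi-finite algebra is finite. -/
theorem exists_integralOn [IsNoetherianRing A] [Algebra.QuasiFinite A B] (l : List A) (G : Finset B)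
    (hl : Ideal.span (listSet l) ≠ ⊤) :
    ∃ f, f ∉ Ideal.span (listSet l) ∧ ∀ x ∈ G, IntegralOn l f x := by
  classical
  obtain ⟨q, hq⟩ : ∃ q, q = Ideal.span (listSet l) := ⟨_, rfl⟩
  obtain ⟨p, hp⟩ := Ideal.nonempty_minimalPrimes (hq ▸ hl : q ≠ ⊤)
  have : p.IsPrime := hp.1.1
  let Ap := Localization.AtPrime p
  let A1 := Ap ⧸ q.map (algebraMap A Ap)
  have hdim : Ring.KrullDimLE 0 A1 := by
    have hne : q.map (algebraMap A Ap) ≠ ⊤ := fun h => by
      have : q.map (algebraMap A Ap) ≤ IsLocalRing.maximalIdeal Ap := by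
        rw [← Localization.AtPrime.map_eq_maximalIdeal]; exact Ideal.map_mono hp.1.2
      exact (IsLocalRing.maximalIdeal.isMaximal Ap).ne_top (top_le_iff.1 (h ▸ this))
    refine Ring.krullDimLE_zero_iff.mpr fun P hP => ?_
    let Q := P.comap (algebraMap A A1)
    have hqQ : q ≤ Q := fun a ha => by
      show algebraMap A A1 a ∈ P
      rw [IsScalarTower.algebraMap_apply A Ap A1, Ideal.Quotient.algebraMap_eq,
        Ideal.Quotient.eq_zero_iff_mem.2 (Ideal.mem_map_of_mem _ ha)]
      exact P.zero_mem
    have hQp : Q ≤ p := fun a ha => by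
      by_contra hap
      exact hP.ne_top (Ideal.eq_top_of_isUnit_mem _ ha (by
        rw [IsScalarTower.algebraMap_apply A Ap A1]
        exact (IsLocalization.map_units Ap (⟨a, hap⟩ : p.primeCompl)).map _))
    have hQeq : Q = p := le_antisymm hQp (hp.2 ⟨Ideal.IsPrime.comap _, hqQ⟩ hQp)
    have hPm : P.comap (Ideal.Quotient.mk (q.map (algebraMap A Ap))) = IsLocalRing.maximalIdeal Ap := by
      refine le_antisymm (IsLocalRing.le_maximalIdeal (Ideal.IsPrime.comap _).ne_top) ?_
      rw [← Localization.AtPrime.map_eq_maximalIdeal, Ideal.map_le_iff_le_comap]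
      exact fun a ha => (hQeq.ge ha :)
    rw [← Ideal.map_comap_of_surjective _ Ideal.Quotient.mk_surjective P, hPm]
    exact (Ideal.map_eq_top_or_isMaximal_of_surjective _ Ideal.Quotient.mk_surjective
      (IsLocalRing.maximalIdeal.isMaximal Ap)).resolve_left (by
      rw [← hPm, Ideal.map_comap_of_surjective _ Ideal.Quotient.mk_surjective]; exact hP.ne_top)
  have : IsNoetherianRing Ap := IsLocalization.isNoetherianRing p.primeCompl Ap inferInstance
  have : IsArtinianRing A1 := isArtinianRing_iff_isNoetherianRing_krullDimLE_zero.mpr ⟨inferInstance, hdim⟩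
  have hfin : Module.Finite A1 (A1 ⊗[A] B) := finite_baseChange A1
  let qB := q.map (algebraMap A B)
  let iA : Ap →ₐ[Ap] Ap ⊗[A] (B ⧸ qB) := Algebra.ofId _ _
  let α : A1 ⊗[A] B →ₐ[Ap] Ap ⊗[A] (B ⧸ qB) :=
    Algebra.TensorProduct.lift (Ideal.Quotient.liftₐ (q.map (algebraMap A Ap)) iA (fun a ha => by
        have : q.map (algebraMap A Ap) ≤ RingHom.ker iA.toRingHom := by
          rw [Ideal.map_le_iff_le_comap]
          intro c hc
          show iA (algebraMap A Ap c) = 0
          rw [show iA (algebraMap A Ap c) = algebraMap A Ap c ⊗ₜ[A] (1 : B ⧸ qB) from rfl,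
            Algebra.algebraMap_eq_smul_one, TensorProduct.smul_tmul, ← Algebra.algebraMap_eq_smul_one,
            IsScalarTower.algebraMap_apply A B (B ⧸ qB), Ideal.Quotient.algebraMap_eq,
            Ideal.Quotient.eq_zero_iff_mem.2 (Ideal.mem_map_of_mem _ hc), TensorProduct.tmul_zero]
        exact this ha))
      ((Algebra.TensorProduct.includeRight).comp (Ideal.Quotient.mkₐ A qB)) (fun _ _ => Commute.all _ _)
  have hint : ∀ x : B, ∃ f ∉ p, IntegralOn l f x := fun x => by
    have hx1 : IsIntegral A1 ((1 : A1) ⊗ₜ[A] x) := Algebra.IsIntegral.isIntegral _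
    have : Algebra.IsIntegral Ap A1 := ⟨fun z => by
      obtain ⟨z, rfl⟩ := Ideal.Quotient.mk_surjective z
      exact isIntegral_algebraMap⟩
    have hx : IsIntegral Ap ((1 : Ap) ⊗ₜ[A] Ideal.Quotient.mk qB x) := by
      have := (isIntegral_trans (R := Ap) _ hx1).map α
      simpa [α] using this
    obtain ⟨m, P, hP, hPx⟩ := hx.exists_multiple_integral_of_isLocalization p.primeCompl
    have e : eval₂ (algebraMap A (Ap ⊗[A] (B ⧸ qB))) (m • ((1 : Ap) ⊗ₜ[A] Ideal.Quotient.mk qB x)) P =
        (1 : Ap) ⊗ₜ[A] Ideal.Quotient.mk qB (aeval ((m : A) • x) P) := by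
      have h1 : m • ((1 : Ap) ⊗ₜ[A] Ideal.Quotient.mk qB x) =
          ((Algebra.TensorProduct.includeRight).comp (Ideal.Quotient.mkₐ A qB)) ((m : A) • x) := by
        rw [map_smul, Submonoid.smul_def]
        rfl
      rw [← aeval_def, h1, aeval_algHom_apply]
      rfl
    rw [e] at hPx
    obtain ⟨m', hm'⟩ := (IsLocalizedModule.eq_zero_iff p.primeCompl
      (TensorProduct.mk A Ap (B ⧸ qB) 1)).1 hPx
    refine ⟨(m' : A) * m, fun h => (‹p.IsPrime›.mem_or_mem h).elim m'.2 m.2, 1, P.scaleRoots m' * X,
      ((Polynomial.monic_scaleRoots_iff _).2 hP).mul monic_X, ?_⟩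
    rw [pow_one, map_mul, aeval_X, mul_smul,
      show aeval ((m' : A) • (m : A) • x) (P.scaleRoots m') =
        algebraMap A B (m' : A) ^ P.natDegree * aeval ((m : A) • x) P by
          rw [Algebra.smul_def (m' : A), aeval_def, scaleRoots_eval₂_mul, ← aeval_def],
      Algebra.smul_def (m' : A)]
    have hsplit : ∀ a z y : B, a ^ P.natDegree * y * (a * z) = a ^ P.natDegree * z * (a * y) := fun _ _ _ => by ring
    rw [hsplit]
    have hm : algebraMap A B (m' : A) * aeval ((m : A) • x) P ∈ qB := by
      rw [← Algebra.smul_def, ← Ideal.Quotient.eq_zero_iff_mem, ← Ideal.Quotient.mkₐ_eq_mk A, map_smul]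
      exact hm'
    subst hq
    exact Ideal.mul_mem_left _ _ hm
  choose f hfp hf using hint
  refine ⟨∏ x ∈ G, f x, fun h => ?_, fun x hx => ?_⟩
  · obtain ⟨x, -, hx⟩ := (Ideal.IsPrime.prod_mem_iff (p := p)).1 (hp.1.2 (hq ▸ h))
    exact hfp x hx
  · obtain ⟨n, P, hP, hmem⟩ := hf x
    obtain ⟨c, hc⟩ : ∃ c, (∏ y ∈ G, f y) = c * f x := ⟨_, (Finset.prod_erase_mul _ _ hx).symm⟩
    refine ⟨n, P.scaleRoots (c ^ n), (Polynomial.monic_scaleRoots_iff _).2 hP, ?_⟩
    have e : (∏ y ∈ G, f y) ^ n • x = algebraMap A B (c ^ n) * (f x ^ n • x) := by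
      rw [hc, mul_pow, Algebra.smul_def, Algebra.smul_def, map_mul, mul_assoc]
    rw [e, aeval_def, scaleRoots_eval₂_mul]
    exact Ideal.mul_mem_left _ _ hmem

theorem strat_of_noetherian [IsNoetherianRing A] [Algebra.QuasiFinite A B] (G : Finset B) (l : List A) :
    Strat (G : Set B) l := by
  classical
  induction hI : Ideal.span (listSet l) using WellFoundedGT.induction generalizing l with
  | _ I ih =>
    by_cases h : Ideal.span (listSet l) = ⊤
    · exact .done l h
    · obtain ⟨f, hf, hfx⟩ := exists_integralOn l G h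
      refine .step l f hfx (ih _ ?_ _ rfl)
      subst hI
      refine lt_of_le_of_ne (Ideal.span_mono fun a ha => List.mem_cons_of_mem _ ha) fun e => hf ?_
      rw [e]
      exact Ideal.subset_span (List.mem_cons_self ..)

/-- An etale algebra is integral over finitely many strata. -/
theorem exists_strat (A B : Type u) [CommRing A] [CommRing B] [Algebra A B] [Algebra.Etale A B] :
    ∃ G : Finset B, Algebra.adjoin A (G : Set B) = ⊤ ∧ Strat (G : Set B) ([] : List A) := by
  classical
  obtain ⟨A₀, B₀, _, _, hfg, hB₀, ⟨e⟩⟩ := Algebra.Etale.exists_subalgebra_fg (R := ℤ) (A := A) (B := B)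
  have : Algebra.FiniteType ℤ A₀ := (Subalgebra.fg_iff_finiteType A₀).1 hfg
  have : IsNoetherianRing A₀ := Algebra.FiniteType.isNoetherianRing ℤ A₀
  obtain ⟨G₀, hG₀⟩ := (inferInstance : Algebra.FiniteType A₀ B₀).out
  let h : B₀ →ₐ[A₀] B := (e.symm.toAlgHom.restrictScalars A₀).comp Algebra.TensorProduct.includeRight
  have hs := (strat_of_noetherian (A := A₀) (B := B₀) G₀ []).map (algebraMap A₀ A) h.toRingHom (by
    refine RingHom.ext fun a => ?_
    show h (algebraMap A₀ B₀ a) = algebraMap A B (algebraMap A₀ A a)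
    rw [AlgHom.commutes, IsScalarTower.algebraMap_apply A₀ A B])
  refine ⟨G₀.image h, ?_, by rw [Finset.coe_image]; exact hs⟩
  have key : ∀ y : B₀, h y ∈ Algebra.adjoin A ((G₀.image h : Finset B) : Set B) := fun y => by
    have hy₀ : y ∈ Algebra.adjoin A₀ (G₀ : Set B₀) := hG₀ ▸ trivial
    induction hy₀ using Algebra.adjoin_induction with
    | mem x hx => exact Algebra.subset_adjoin (Finset.mem_coe.2 (Finset.mem_image_of_mem h hx))
    | algebraMap r =>
      rw [AlgHom.commutes, IsScalarTower.algebraMap_apply A₀ A B]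
      exact Subalgebra.algebraMap_mem _ _
    | add x y _ _ hx hy => rw [map_add]; exact Subalgebra.add_mem _ hx hy
    | mul x y _ _ hx hy => rw [map_mul]; exact Subalgebra.mul_mem _ hx hy
  rw [eq_top_iff]
  intro b _
  obtain ⟨t, rfl⟩ := e.symm.surjective b
  induction t using TensorProduct.induction_on with
  | zero => rw [map_zero]; exact Subalgebra.zero_mem _
  | add x y hx hy => rw [map_add]; exact Subalgebra.add_mem _ (hx trivial) (hy trivial)
  | tmul a y =>
    have hy := key y
    rw [show e.symm (a ⊗ₜ[A₀] y) = a • h y by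
      show _ = a • e.symm ((1 : A) ⊗ₜ[A₀] y)
      rw [← map_smul, TensorProduct.smul_tmul', smul_eq_mul, mul_one]]
    exact Subalgebra.smul_mem _ hy a

end Groth.Agent.H13AlgSp.ThickAff
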