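import Groth.Agent.H13AlgSp.ThickAff.Nil
import Groth.Agent.H13AlgSp.ThickAff.Strat

/-!
Existence of nonzero nilpotent invariant ideals inside invariant nil ideals.
-/

universe u

open TensorProduct Polynomial

set_option backward.isDefEq.respectTransparency false
set_option backward.isDefEq.respectTransparency.types false

namespace Groth.Agent.H13AlgSp.ThickAff

variable {B C : Type u} [CommRing B] [CommRing C]

theorem isNilpotent_of_mem_map {I : Ideal B} (hnil : ∀ x ∈ I, IsNilpotent x) (φ : B →+* C) {z : C}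
    (hz : z ∈ I.map φ) : IsNilpotent z :=
  mem_nilradical.1 ((Ideal.map_le_iff_le_comap.2 fun x hx => mem_nilradical.2 ((hnil x hx).map φ) :
    I.map φ ≤ nilradical C) hz)

theorem isIntegral_of_isNilpotent {R Q : Type u} [CommRing R] [CommRing Q] [Algebra R Q] {y : Q}
    (h : IsNilpotent y) : IsIntegral R y := by
  obtain ⟨k, hk⟩ := h
  exact ⟨X ^ k, monic_X_pow k, by rw [eval₂_X_pow, hk]⟩

/-- Finite presentation and flatness pass to quotients by ideals of the base. -/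
theorem fp_flat_quot {R P : Type u} [CommRing R] [CommRing P] [Algebra R P] [Algebra.FinitePresentation R P]
    [Module.Flat R P] (J : Ideal R) :
    Algebra.FinitePresentation (R ⧸ J) (P ⧸ J.map (algebraMap R P)) ∧
      Module.Flat (R ⧸ J) (P ⧸ J.map (algebraMap R P)) :=
  ⟨(inferInstance : Algebra.FinitePresentation (R ⧸ J) ((R ⧸ J) ⊗[R] P)).equiv
      (Algebra.TensorProduct.quotIdealMapEquivQuotTensor (A := R) P J).symm,
    Module.Flat.of_linearEquiv (Algebra.TensorProduct.quotIdealMapEquivQuotTensor (A := R) P J).toLinearEquiv⟩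

namespace RingRel

variable (G : RingRel B C)

theorem inv_inf {K L : Ideal B} (hK : G.Inv K) (hL : G.Inv L) : G.Inv (K ⊓ L) := by
  show Ideal.map G.s _ = Ideal.map G.t _
  rw [map_inf_of_flat G.flat_s, map_inf_of_flat G.flat_t, hK, hL]

theorem map_sLoc (f : B) (K : Ideal B) :
    (K.map (algebraMap B (Bf f))).map (G.sLoc f) = (K.map G.s).map (algebraMap C (G.Cf f)) := by
  rw [Ideal.map_map, Ideal.map_map]
  exact congrArg (Ideal.map · K) (RingHom.ext (G.sLoc_map f))

theorem map_tLoc (f : B) (hf : IsNilpotent (G.t f - G.s f)) (K : Ideal B) :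
    (K.map (algebraMap B (Bf f))).map (G.tLoc f hf) = (K.map G.t).map (algebraMap C (G.Cf f)) := by
  rw [Ideal.map_map, Ideal.map_map]
  exact congrArg (Ideal.map · K) (RingHom.ext (G.tLoc_map f hf))

theorem inv_map_loc {f : B} (hf : IsNilpotent (G.t f - G.s f)) {K : Ideal B} (hK : G.Inv K) :
    (G.loc f hf).Inv (K.map (algebraMap B (Bf f))) := by
  show Ideal.map (G.sLoc f) _ = Ideal.map (G.tLoc f hf) _
  rw [map_sLoc, map_tLoc, hK]

theorem inv_comap_loc {f : B} (hf : IsNilpotent (G.t f - G.s f)) {K : Ideal (Bf f)}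
    (hK : (G.loc f hf).Inv K) : G.Inv (K.comap (algebraMap B (Bf f))) := by
  obtain ⟨K0, hK0⟩ : ∃ K0, K0 = K.comap (algebraMap B (Bf f)) := ⟨_, rfl⟩
  rw [← hK0]
  have hK1 : K0.map (algebraMap B (Bf f)) = K :=
    hK0 ▸ IsLocalization.map_comap (Submonoid.powers f) (Bf f) K
  have hsat : sat K0 f = K0 := by rw [← comap_map_sat K0 f (Bf f), hK1, hK0]
  have h1 : K0.map G.s = ((K0.map G.s).map (algebraMap C (G.Cf f))).comap (algebraMap C (G.Cf f)) := by
    rw [comap_map_sat _ (G.s f) (G.Cf f), ← map_sat_of_flat G.flat_s, hsat]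
  have h2 : K0.map G.t = ((K0.map G.t).map (algebraMap C (G.Cf f))).comap (algebraMap C (G.Cf f)) := by
    rw [comap_map_sat _ (G.s f) (G.Cf f), ← sat_eq_of_nilpotent hf, ← map_sat_of_flat G.flat_t, hsat]
  show K0.map G.s = K0.map G.t
  rw [h1, h2, ← map_sLoc, ← map_tLoc G f hf, hK1]
  exact congrArg (Ideal.comap _) hK

/-- The structure map on the quotient of a localized relation is integral. -/
theorem isIntegral_quot {I : Ideal B} (hnil : ∀ x ∈ I, IsNilpotent x) (l : List B) (f : B)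
    (J : Ideal (Bf f)) (hJ : ∀ b ∈ l, ∃ n : ℕ, algebraMap B (Bf f) b ^ n ∈ J) (X : Set C)
    (hgen : ∀ c : C, ∃ p ∈ Algebra.adjoin B (Via.mk G.s '' X), Via.mk G.s c - p ∈ I.map (algebraMap B (Via G.s)))
    (hint : ∀ x ∈ X, ∃ (n : ℕ) (P : B[X]), P.Monic ∧
      P.eval₂ G.s (G.s f ^ n * x) ∈ (I ⊔ Ideal.span (listSet l)).map G.s) :
    Algebra.IsIntegral (Bf f) (Via (G.sLoc f) ⧸ J.map (algebraMap (Bf f) (Via (G.sLoc f)))) := by
  let J1 := J.map (algebraMap (Bf f) (Via (G.sLoc f)))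
  let ρ : C →+* Via (G.sLoc f) ⧸ J1 :=
    ((Ideal.Quotient.mk J1).comp (Via.mk (G.sLoc f))).comp (algebraMap C (G.Cf f))
  let r := algebraMap (Bf f) (Via (G.sLoc f) ⧸ J1)
  have hr : ∀ b, ρ (G.s b) = r (algebraMap B (Bf f) b) := fun b =>
    (congrArg (fun z => Ideal.Quotient.mk J1 (Via.mk (G.sLoc f) z)) (G.sLoc_map f b)).symm
  obtain ⟨finv, hfinv⟩ := (IsLocalization.Away.algebraMap_isUnit (S := Bf f) f).exists_left_inv
  have hunit : ∀ n : ℕ, r (finv ^ n) * ρ (G.s f ^ n) = 1 := fun n => by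
    rw [map_pow ρ, hr, ← map_pow, ← map_mul, ← mul_pow, hfinv, one_pow, map_one]
  have hnilI : ∀ z ∈ (I ⊔ Ideal.span (listSet l)).map G.s, IsNilpotent (ρ z) := by
    suffices h : ((I ⊔ Ideal.span (listSet l)).map G.s).map ρ ≤ nilradical _ from
      fun z hz => mem_nilradical.1 (h (Ideal.mem_map_of_mem ρ hz))
    rw [Ideal.map_map, Ideal.map_le_iff_le_comap, sup_le_iff, Ideal.span_le]
    refine ⟨fun x hx => mem_nilradical.2 ((hnil x hx).map _), fun b hb => mem_nilradical.2 ?_⟩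
    obtain ⟨n, hn⟩ := hJ b hb
    refine ⟨n, ?_⟩
    rw [RingHom.comp_apply, hr, ← map_pow]
    exact Ideal.Quotient.eq_zero_iff_mem.2 (Ideal.mem_map_of_mem _ hn)
  have hρI : ∀ z ∈ I.map G.s, IsNilpotent (ρ z) := fun z hz =>
    hnilI z (Ideal.map_mono le_sup_left hz)
  have hX : ∀ x ∈ X, IsIntegral (Bf f) (ρ x) := fun x hx => by
    obtain ⟨n, P, hP, hmem⟩ := hint x hx
    obtain ⟨k, hk⟩ := hnilI _ hmem
    have h1 : IsIntegral (Bf f) (ρ (G.s f ^ n * x)) := by
      refine ⟨(P ^ k).map (algebraMap B (Bf f)), (hP.pow k).map _, ?_⟩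
      rw [eval₂_map, eval₂_pow, show (algebraMap (Bf f) (Via (G.sLoc f) ⧸ J1)).comp (algebraMap B (Bf f)) =
        ρ.comp G.s from RingHom.ext fun b => (hr b).symm, ← hom_eval₂, hk]
    have h2 := (isIntegral_algebraMap (R := Bf f) (A := Via (G.sLoc f) ⧸ J1) (x := finv ^ n)).mul h1
    rwa [map_mul ρ, ← mul_assoc, hunit, one_mul] at h2
  have hadj : ∀ p : Via G.s, p ∈ Algebra.adjoin B (Via.mk G.s '' X) → IsIntegral (Bf f) (ρ p) := fun p hp => by
    induction hp using Algebra.adjoin_induction with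
    | mem x hx =>
      obtain ⟨y, hy, rfl⟩ := hx
      exact hX y hy
    | algebraMap b => exact (hr b).symm ▸ isIntegral_algebraMap
    | add x y _ _ hx hy =>
      show IsIntegral (Bf f) (ρ ((x : C) + (y : C)))
      exact (map_add ρ (x : C) y).symm ▸ hx.add hy
    | mul x y _ _ hx hy =>
      show IsIntegral (Bf f) (ρ ((x : C) * (y : C)))
      exact (map_mul ρ (x : C) y).symm ▸ hx.mul hy
  have hC : ∀ c : C, IsIntegral (Bf f) (ρ c) := fun c => by
    obtain ⟨p, hp, hcp⟩ := hgen c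
    let q : C := p
    have h1 : IsNilpotent (ρ (c - q)) := hρI _ hcp
    have := (hadj p hp).add (isIntegral_of_isNilpotent h1)
    rw [← map_add ρ] at this
    exact (add_sub_cancel q c) ▸ this
  refine ⟨fun q => ?_⟩
  obtain ⟨z, rfl⟩ := Ideal.Quotient.mk_surjective q
  obtain ⟨⟨c, ⟨_, n, rfl⟩⟩, hc⟩ := IsLocalization.surj (Submonoid.powers (G.s f)) (S := G.Cf f) z
  have h1 : Ideal.Quotient.mk J1 z * ρ (G.s f ^ n) = ρ c :=
    (map_mul ((Ideal.Quotient.mk J1).comp (Via.mk (G.sLoc f))) _ _).symm.trans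
      (congrArg ((Ideal.Quotient.mk J1).comp (Via.mk (G.sLoc f))) hc)
  have h2 := (isIntegral_algebraMap (R := Bf f) (A := Via (G.sLoc f) ⧸ J1) (x := finv ^ n)).mul (hC c)
  rwa [← h1, mul_left_comm, hunit, mul_one] at h2

/-- A dual basis for the localized relation modulo an ideal over which it is finite. -/
theorem exists_dualBasis_loc (hG : G.s.FinitePresentation) {f : B} (J : Ideal (Bf f))
    (h : Algebra.IsIntegral (Bf f) (Via (G.sLoc f) ⧸ J.map (algebraMap (Bf f) (Via (G.sLoc f))))) :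
    Nonempty (DualBasis J (Via (G.sLoc f))) := by
  let P := Via (G.sLoc f)
  have hfp : (G.sLoc f).FinitePresentation := by
    refine RingHom.FinitePresentation.of_comp_finiteType (algebraMap B (Bf f)) ?_ ?_
    · rw [show (G.sLoc f).comp (algebraMap B (Bf f)) = (algebraMap C (G.Cf f)).comp G.s from
        RingHom.ext (G.sLoc_map f)]
      exact RingHom.FinitePresentation.comp
        (RingHom.finitePresentation_algebraMap.2 (IsLocalization.Away.finitePresentation (G.s f))) hG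
    · have : Algebra.FinitePresentation B (Bf f) := IsLocalization.Away.finitePresentation f
      exact RingHom.finiteType_algebraMap.2 inferInstance
  have : Algebra.FinitePresentation (Bf f) P := hfp
  have : Module.Flat (Bf f) P := G.flat_loc f G.flat_s (G.sLoc_map f)
  obtain ⟨_, _⟩ := fp_flat_quot (P := P) J
  have : Algebra.IsIntegral (Bf f ⧸ J) (P ⧸ J.map (algebraMap (Bf f) P)) :=
    ⟨fun q => (h.isIntegral q).tower_top⟩
  have : Module.Finite (Bf f ⧸ J) (P ⧸ J.map (algebraMap (Bf f) P)) := Algebra.IsIntegral.finite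
  have : Module.FinitePresentation (Bf f ⧸ J) (P ⧸ J.map (algebraMap (Bf f) P)) :=
    Module.FinitePresentation.of_finite_of_finitePresentation _ _
  have : Module.Projective (Bf f ⧸ J) (P ⧸ J.map (algebraMap (Bf f) P)) :=
    Module.Flat.projective_of_finitePresentation
  exact exists_dualBasis J

/-- An element supported on a closed set, not killed near a piece of it where the source map is finite, gives a
nilpotent invariant ideal. -/
theorem exists_nilpotent_inv_step (hG : G.s.FinitePresentation) {I : Ideal B} (hI : G.Inv I)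
    (hnil : ∀ x ∈ I, IsNilpotent x) (l : List B) (f : B)
    (hl : ∀ b ∈ f :: l, IsNilpotent (G.t b - G.s b)) (X : Set C)
    (hgen : ∀ c : C, ∃ p ∈ Algebra.adjoin B (Via.mk G.s '' X), Via.mk G.s c - p ∈ I.map (algebraMap B (Via G.s)))
    (hint : ∀ x ∈ X, ∃ (n : ℕ) (P : B[X]), P.Monic ∧
      P.eval₂ G.s (G.s f ^ n * x) ∈ (I ⊔ Ideal.span (listSet l)).map G.s)
    (h0 : supportedIn I (f :: l) = ⊥) (h1 : supportedIn I l ≠ ⊥) :
    ∃ L : Ideal B, L ≠ ⊥ ∧ L ≤ I ∧ G.Inv L ∧ IsNilpotent L := by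
  have hl' : ∀ b ∈ l, IsNilpotent (G.t b - G.s b) := fun b hb => hl b (List.mem_cons_of_mem _ hb)
  have hf := hl f (List.mem_cons_self ..)
  obtain ⟨g, hg, hg0⟩ := Submodule.exists_mem_ne_zero_of_ne_bot h1
  have hkill : ∀ b ∈ l, ∃ n : ℕ, G.s b ^ n * G.t g = 0 := fun b hb => by
    have h : G.t g ∈ (sat ⊥ b).map G.t := Ideal.mem_map_of_mem _ (mem_supportedIn_ann hg b hb)
    rw [map_sat_of_flat G.flat_t, Ideal.map_bot, sat_eq_of_nilpotent (hl' b hb)] at h
    exact h
  choose N hN using fun b : {b // b ∈ l} => hkill b.1 b.2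
  have : Finite {b // b ∈ l} := (List.finite_toSet l).to_subtype
  let J : Ideal (Bf f) := Ideal.span (Set.range fun b : {b // b ∈ l} => algebraMap B (Bf f) b.1 ^ N b)
  have hJ : ∀ b ∈ l, ∃ n : ℕ, algebraMap B (Bf f) b ^ n ∈ J := fun b hb =>
    ⟨N ⟨b, hb⟩, Ideal.subset_span ⟨⟨b, hb⟩, rfl⟩⟩
  obtain ⟨D⟩ := G.exists_dualBasis_loc hG J (G.isIntegral_quot hnil l f J hJ X hgen hint)
  let g' := algebraMap B (Bf f) g
  have hJg : ∀ j ∈ J, G.sLoc f j * G.tLoc f hf g' = 0 := fun j hj => by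
    have : J ≤ ((⊥ : Ideal (G.Cf f)).colon ({G.tLoc f hf g'} : Set (G.Cf f))).comap (G.sLoc f) := by
      rw [Ideal.span_le]
      rintro _ ⟨b, rfl⟩
      rw [SetLike.mem_coe, Ideal.mem_comap, Submodule.mem_colon_singleton, Ideal.mem_bot, smul_eq_mul, map_pow,
        sLoc_map, tLoc_map, ← map_pow, ← map_mul, hN, map_zero]
    have h := this hj
    rwa [Ideal.mem_comap, Submodule.mem_colon_singleton, Ideal.mem_bot, smul_eq_mul] at h
  obtain ⟨K, hKfg, hKI, hKinv, hgK⟩ := (G.loc f hf).exists_fg_inv (G.inv_map_loc hf hI)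
    (Submodule.fg_span (Set.finite_range _)) D (Ideal.mem_map_of_mem _ (supportedIn_le I l hg)) hJg
  obtain ⟨m, hm⟩ : IsNilpotent K := hKfg.isNilpotent_iff_le_nilradical.2 fun x hx =>
    mem_nilradical.2 (isNilpotent_of_mem_map hnil _ (hKI hx))
  refine ⟨supportedIn I l ⊓ K.comap (algebraMap B (Bf f)), ?_, inf_le_left.trans (supportedIn_le I l),
    G.inv_inf (inv_supportedIn G hI hl') (G.inv_comap_loc hf hKinv), ⟨m + 1, ?_⟩⟩
  · exact fun h => hg0 ((Submodule.mem_bot _).1 (h.le ⟨hg, hgK⟩))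
  · rw [Ideal.zero_eq_bot, eq_bot_iff, ← h0, supportedIn]
    refine le_inf ?_ ((Ideal.pow_le_self (Nat.succ_ne_zero m)).trans inf_le_left)
    rw [← comap_map_sat (⊥ : Ideal B) f (Bf f), Ideal.map_bot, ← Ideal.map_le_iff_le_comap, Ideal.map_pow]
    refine (Ideal.pow_right_mono ((Ideal.map_mono inf_le_right).trans Ideal.map_comap_le) (m + 1)).trans ?_
    rw [pow_succ, hm, Ideal.zero_eq_bot, Ideal.bot_mul]

end RingRel

/-- A relation restricted to a closed subset is the kernel pair of a cover of a base. -/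
structure Restr (G : RingRel B C) (I : Ideal B) (A : Type u) [CommRing A] [Algebra A (B ⧸ I)] where
  ψ : (B ⧸ I) ⊗[A] (B ⧸ I) →+* C ⧸ I.map G.s
  ψ_tmul : ∀ b u : B, ψ (Ideal.Quotient.mk I b ⊗ₜ[A] Ideal.Quotient.mk I u) = Ideal.Quotient.mk _ (G.t b * G.s u)
  bij : Function.Bijective ψ

namespace Restr

variable {G : RingRel B C} {I : Ideal B} {A : Type u} [CommRing A] [Algebra A (B ⧸ I)] (W : Restr G I A)
include W

theorem t_sub_s_mem {b : B} {a : A} (h : Ideal.Quotient.mk I b = algebraMap A (B ⧸ I) a) :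
    G.t b - G.s b ∈ I.map G.s := by
  have h1 := W.ψ_tmul b 1
  have h2 := W.ψ_tmul 1 b
  rw [map_one G.s, map_one (Ideal.Quotient.mk I), mul_one, h] at h1
  rw [map_one G.t, map_one (Ideal.Quotient.mk I), one_mul, h] at h2
  rw [← Ideal.Quotient.eq, ← h1, ← h2, Algebra.algebraMap_eq_smul_one, TensorProduct.smul_tmul]

theorem gen {Y : Set B} (hY : Algebra.adjoin A (Ideal.Quotient.mk I '' Y) = ⊤) (c : C) :
    ∃ p ∈ Algebra.adjoin B (Via.mk G.s '' (G.t '' Y)), Via.mk G.s c - p ∈ I.map (algebraMap B (Via G.s)) := by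
  let T : Subring ((B ⧸ I) ⊗[A] (B ⧸ I)) :=
    ((Algebra.adjoin B (Via.mk G.s '' (G.t '' Y))).toSubring.map
      (show Via G.s →+* C ⧸ I.map G.s from Ideal.Quotient.mk (I.map G.s))).comap W.ψ
  have hright : ∀ u : B ⧸ I, (1 : B ⧸ I) ⊗ₜ[A] u ∈ T := fun u => by
    obtain ⟨u, rfl⟩ := Ideal.Quotient.mk_surjective u
    refine ⟨algebraMap B (Via G.s) u, Subalgebra.algebraMap_mem _ u, ?_⟩
    rw [← map_one (Ideal.Quotient.mk I), W.ψ_tmul, map_one G.t, one_mul]
    rfl
  have hleft : ∀ b : B ⧸ I, b ⊗ₜ[A] (1 : B ⧸ I) ∈ T := fun b => by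
    have hb : b ∈ Algebra.adjoin A (Ideal.Quotient.mk I '' Y) := hY ▸ Algebra.mem_top
    induction hb using Algebra.adjoin_induction with
    | mem x hx =>
      obtain ⟨y, hy, rfl⟩ := hx
      refine ⟨Via.mk G.s (G.t y), Algebra.subset_adjoin ⟨_, ⟨y, hy, rfl⟩, rfl⟩, ?_⟩
      rw [← map_one (Ideal.Quotient.mk I), W.ψ_tmul, map_one G.s, mul_one]
      rfl
    | algebraMap a =>
      rw [Algebra.algebraMap_eq_smul_one, TensorProduct.smul_tmul]
      exact hright _
    | add x y _ _ hx hy => rw [TensorProduct.add_tmul]; exact add_mem hx hy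
    | mul x y _ _ hx hy =>
      rw [show (x * y) ⊗ₜ[A] (1 : B ⧸ I) = x ⊗ₜ[A] 1 * y ⊗ₜ[A] 1 by
        rw [Algebra.TensorProduct.tmul_mul_tmul, one_mul]]
      exact mul_mem hx hy
  have hall : ∀ z, z ∈ T := fun z => by
    induction z using TensorProduct.induction_on with
    | zero => exact zero_mem T
    | add x y hx hy => exact add_mem hx hy
    | tmul b u =>
      rw [show b ⊗ₜ[A] u = b ⊗ₜ[A] 1 * 1 ⊗ₜ[A] u by
        rw [Algebra.TensorProduct.tmul_mul_tmul, one_mul, mul_one]]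
      exact mul_mem (hleft b) (hright u)
  obtain ⟨z, hz⟩ := W.bij.2 (Ideal.Quotient.mk _ c)
  obtain ⟨p, hp, hpz⟩ := hall z
  exact ⟨p, hp, Ideal.Quotient.eq.1 (hz.symm.trans hpz.symm)⟩

/-- A nonzero invariant nil ideal contains a nonzero invariant nilpotent ideal. -/
theorem exists_nilpotent_inv [Algebra.Etale A (B ⧸ I)] (hG : G.s.FinitePresentation) (hI : G.Inv I)
    (hnil : ∀ x ∈ I, IsNilpotent x) (hne : I ≠ ⊥) :
    ∃ L : Ideal B, L ≠ ⊥ ∧ L ≤ I ∧ G.Inv L ∧ IsNilpotent L := by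
  classical
  obtain ⟨G0, hG0, hs⟩ := exists_strat A (B ⧸ I)
  choose σ hσ using fun a : A => Ideal.Quotient.mk_surjective (algebraMap A (B ⧸ I) a)
  let Y : Set B := Ideal.Quotient.mk I ⁻¹' (G0 : Set (B ⧸ I))
  have hY : Algebra.adjoin A (Ideal.Quotient.mk I '' Y) = ⊤ := by
    rw [Set.image_preimage_eq _ Ideal.Quotient.mk_surjective]; exact hG0
  have hσnil : ∀ a, IsNilpotent (G.t (σ a) - G.s (σ a)) := fun a =>
    isNilpotent_of_mem_map hnil G.s (W.t_sub_s_mem (hσ a))
  suffices h : ∀ l : List A, Strat (G0 : Set (B ⧸ I)) l → supportedIn I (l.map σ) ≠ ⊥ →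
      ∃ L : Ideal B, L ≠ ⊥ ∧ L ≤ I ∧ G.Inv L ∧ IsNilpotent L from h [] hs hne
  intro l hl
  induction hl with
  | done l h =>
    refine fun hsupp => (hsupp ?_).elim
    rw [eq_bot_iff]
    intro g hg
    have htop : Ideal.span (listSet (l.map σ)) ⊔ I = ⊤ := by
      have h1 : ((Ideal.span (listSet (l.map σ))).map (Ideal.Quotient.mk I)) = ⊤ := by
        rw [eq_top_iff, ← Ideal.map_top (algebraMap A (B ⧸ I)), ← h, Ideal.map_span, Ideal.span_le]
        rintro _ ⟨a, ha, rfl⟩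
        exact hσ a ▸ Ideal.mem_map_of_mem _ (Ideal.subset_span (List.mem_map_of_mem ha))
      have h2 := congrArg (Ideal.comap (Ideal.Quotient.mk I)) h1
      rwa [Ideal.comap_map_of_surjective _ Ideal.Quotient.mk_surjective, Ideal.comap_top, ← RingHom.ker_eq_comap_bot,
        Ideal.mk_ker] at h2
    let K : Ideal B := (⊥ : Ideal B).colon ({g} : Set B)
    have hle : Ideal.span (listSet (l.map σ)) ⊔ I ≤ K.radical := by
      refine sup_le (Ideal.span_le.2 fun b hb => ?_) fun x hx => ?_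
      · obtain ⟨n, hn⟩ := mem_supportedIn_ann hg b hb
        exact ⟨n, Submodule.mem_colon_singleton.2 hn⟩
      · obtain ⟨n, hn⟩ := hnil x hx
        exact ⟨n, hn ▸ K.zero_mem⟩
    have h1 : K = ⊤ := Ideal.radical_eq_top.1 (top_le_iff.1 (htop ▸ hle))
    have h2 : (1 : B) ∈ K := h1 ▸ Submodule.mem_top
    rwa [Submodule.mem_colon_singleton, one_smul] at h2
  | step l f hf _ ih =>
    intro hsupp
    by_cases h0 : supportedIn I ((f :: l).map σ) = ⊥
    · refine G.exists_nilpotent_inv_step hG hI hnil (l.map σ) (σ f) (fun b hb => ?_) (G.t '' Y) (W.gen hY)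
        ?_ h0 hsupp
      · obtain ⟨a, -, rfl⟩ := List.mem_map.1 (show b ∈ (f :: l).map σ from hb)
        exact hσnil a
      rintro _ ⟨y, hy, rfl⟩
      obtain ⟨n, P, hP, hmem⟩ := hf _ hy
      obtain ⟨Q, hQm, hQ⟩ : ∃ Q : B[X], Q.Monic ∧ Q.map (Ideal.Quotient.mk I) = P.map (algebraMap A (B ⧸ I)) := by
        refine ⟨X ^ P.natDegree + ∑ i : Fin P.natDegree, Polynomial.C (σ (P.coeff i)) * X ^ (i : ℕ),
          monic_X_pow_add (degree_sum_fin_lt _), ?_⟩
        conv_rhs => rw [hP.as_sum, Finset.sum_range]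
        simp [Polynomial.map_sum, hσ]
      refine ⟨n, Q, hQm, ?_⟩
      let θ : B ⧸ I →+* C ⧸ I.map G.s := W.ψ.comp Algebra.TensorProduct.includeLeftRingHom
      have hθA : ∀ a, θ (algebraMap A (B ⧸ I) a) = Ideal.Quotient.mk _ (G.s (σ a)) := fun a => by
        show W.ψ (algebraMap A (B ⧸ I) a ⊗ₜ[A] 1) = _
        rw [← hσ a, ← map_one (Ideal.Quotient.mk I), W.ψ_tmul, map_one G.s, mul_one]
        exact Ideal.Quotient.eq.2 (W.t_sub_s_mem (hσ a))
      have hθy : θ (Ideal.Quotient.mk I y) = Ideal.Quotient.mk _ (G.t y) := by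
        show W.ψ (Ideal.Quotient.mk I y ⊗ₜ[A] 1) = _
        rw [← map_one (Ideal.Quotient.mk I), W.ψ_tmul, map_one G.s, mul_one]
      have h1 : θ (aeval (f ^ n • Ideal.Quotient.mk I y) P) =
          Ideal.Quotient.mk _ (Q.eval₂ G.s (G.s (σ f) ^ n * G.t y)) := by
        have hθm : θ.comp (Ideal.Quotient.mk I) = (Ideal.Quotient.mk (I.map G.s)).comp G.t := by
          refine RingHom.ext fun b => ?_
          show W.ψ (Ideal.Quotient.mk I b ⊗ₜ[A] 1) = _
          rw [← map_one (Ideal.Quotient.mk I), W.ψ_tmul, map_one G.s, mul_one]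
          rfl
        have hcomp : θ.comp (algebraMap A (B ⧸ I)) =
            (W.ψ.comp (Algebra.TensorProduct.includeRight (R := A) (A := B ⧸ I) (B := B ⧸ I)).toRingHom).comp
              (algebraMap A (B ⧸ I)) := by
          refine RingHom.ext fun a => congrArg W.ψ ?_
          show algebraMap A (B ⧸ I) a ⊗ₜ[A] (1 : B ⧸ I) = (1 : B ⧸ I) ⊗ₜ[A] algebraMap A (B ⧸ I) a
          rw [Algebra.algebraMap_eq_smul_one, TensorProduct.smul_tmul]
        have hs : (W.ψ.comp (Algebra.TensorProduct.includeRight (R := A) (A := B ⧸ I) (B := B ⧸ I)).toRingHom).comp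
              (Ideal.Quotient.mk I) = (Ideal.Quotient.mk (I.map G.s)).comp G.s := by
          refine RingHom.ext fun b => ?_
          show W.ψ (1 ⊗ₜ[A] Ideal.Quotient.mk I b) = _
          rw [← map_one (Ideal.Quotient.mk I), W.ψ_tmul, map_one G.t, one_mul]
          rfl
        rw [aeval_def, hom_eval₂, hcomp, ← eval₂_map, ← hQ, eval₂_map, hs, Algebra.smul_def, map_mul θ,
          map_pow, map_pow θ, hθA, hθy, ← map_pow (Ideal.Quotient.mk _), ← map_mul, ← hom_eval₂]
      have h2 : θ (aeval (f ^ n • Ideal.Quotient.mk I y) P) ∈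
          ((Ideal.span (listSet (l.map σ))).map G.s).map (Ideal.Quotient.mk (I.map G.s)) := by
        refine (?_ : ((Ideal.span (listSet l)).map (algebraMap A (B ⧸ I))).map θ ≤ _) (Ideal.mem_map_of_mem θ hmem)
        rw [Ideal.map_map, Ideal.map_span, Ideal.span_le]
        rintro _ ⟨a, ha, rfl⟩
        rw [SetLike.mem_coe, RingHom.comp_apply, hθA]
        exact Ideal.mem_map_of_mem _ (Ideal.mem_map_of_mem _ (Ideal.subset_span (List.mem_map_of_mem ha)))
      rw [h1, ← Ideal.mem_comap, Ideal.comap_map_of_surjective _ Ideal.Quotient.mk_surjective,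
        ← RingHom.ker_eq_comap_bot, Ideal.mk_ker] at h2
      rwa [Ideal.map_sup, sup_comm]
    · exact ih h0

end Restr

end Groth.Agent.H13AlgSp.ThickAff
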